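import Mathlib.RingTheory.Length
import Mathlib.RingTheory.SimpleModule.Basic
import Mathlib.RingTheory.LocalRing.ResidueField.Basic
import Mathlib.Algebra.Category.ModuleCat.Abelian
import Mathlib.Algebra.Category.ModuleCat.EpiMono
import Mathlib.Algebra.Homology.ShortComplex.ModuleCat
import Mathlib.Algebra.Homology.ShortComplex.ShortExact
import Mathlib.Algebra.Homology.ShortComplex.ExactFunctor

/-!
Lengths of the values of a half exact functor between module categories.
-/

set_option autoImplicit false

universe u

open CategoryTheory CategoryTheory.Limits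

namespace K97.HalfExactLength

section Modules

variable {B : Type*} [Ring B] {M₁ M M₃ : Type*} [AddCommGroup M₁] [AddCommGroup M] [AddCommGroup M₃]
  [Module B M₁] [Module B M] [Module B M₃] (f : M₁ →ₗ[B] M) (g : M →ₗ[B] M₃)

theorem length_eq_range (h : Function.Exact f g) :
    Module.length B M = Module.length B (LinearMap.range f) + Module.length B (LinearMap.range g) := by
  refine Module.length_eq_add_of_exact (LinearMap.range f).subtype g.rangeRestrict
    Subtype.val_injective g.surjective_rangeRestrict ?_
  rw [LinearMap.exact_iff, LinearMap.ker_rangeRestrict, Submodule.range_subtype, ← LinearMap.exact_iff]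
  exact h

theorem length_source : Module.length B M₁ = Module.length B (LinearMap.ker f) +
    Module.length B (LinearMap.range f) := by
  refine Module.length_eq_add_of_exact (LinearMap.ker f).subtype f.rangeRestrict
    Subtype.val_injective f.surjective_rangeRestrict ?_
  rw [LinearMap.exact_iff, LinearMap.ker_rangeRestrict, Submodule.range_subtype]

theorem length_target : Module.length B M₃ = Module.length B (LinearMap.range g) +
    Module.length B (M₃ ⧸ LinearMap.range g) := by
  refine Module.length_eq_add_of_exact (LinearMap.range g).subtype (LinearMap.range g).mkQ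
    Subtype.val_injective (Submodule.mkQ_surjective _) ?_
  exact LinearMap.exact_subtype_mkQ _

theorem length_le (h : Function.Exact f g) :
    Module.length B M ≤ Module.length B M₁ + Module.length B M₃ := by
  rw [length_eq_range f g h, length_source f, length_target g]
  exact add_le_add le_add_self le_self_add

theorem length_eq_iff (h : Function.Exact f g) (h1 : Module.length B M₁ ≠ ⊤)
    (h3 : Module.length B M₃ ≠ ⊤) :
    Module.length B M = Module.length B M₁ + Module.length B M₃ ↔
      Function.Injective f ∧ Function.Surjective g := by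
  constructor
  · intro he
    rw [length_source f, length_target g, length_eq_range f g h] at he
    rw [length_source f] at h1
    rw [length_target g] at h3
    obtain ⟨a, ha⟩ := ENat.ne_top_iff_exists.1
      (ne_top_of_le_ne_top h1 (le_self_add : Module.length B (LinearMap.ker f) ≤ _))
    obtain ⟨b, hb⟩ := ENat.ne_top_iff_exists.1
      (ne_top_of_le_ne_top h1 (le_add_self : Module.length B (LinearMap.range f) ≤ _))
    obtain ⟨c, hc⟩ := ENat.ne_top_iff_exists.1
      (ne_top_of_le_ne_top h3 (le_self_add : Module.length B (LinearMap.range g) ≤ _))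
    obtain ⟨d, hd⟩ := ENat.ne_top_iff_exists.1
      (ne_top_of_le_ne_top h3 (le_add_self : Module.length B (M₃ ⧸ LinearMap.range g) ≤ _))
    rw [← ha, ← hb, ← hc, ← hd] at he
    norm_cast at he
    have ha0 : a = 0 := by omega
    have hd0 : d = 0 := by omega
    rw [ha0, Nat.cast_zero, eq_comm, Module.length_eq_zero_iff] at ha
    rw [hd0, Nat.cast_zero, eq_comm, Module.length_eq_zero_iff] at hd
    refine ⟨LinearMap.ker_eq_bot.1 ((Submodule.subsingleton_iff_eq_bot).1 ha),
      LinearMap.range_eq_top.1 (Submodule.Quotient.subsingleton_iff.1 hd)⟩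
  · rintro ⟨hf, hg⟩
    exact Module.length_eq_add_of_exact f g hf hg h

end Modules

section Functor

variable {A B : Type u} [Ring A] [Ring B] (F : ModuleCat.{u} A ⥤ ModuleCat.{u} B)

/-- the short complex of a submodule. -/
noncomputable abbrev subSC {M : Type u} [AddCommGroup M] [Module A M] (N : Submodule A M) :
    ShortComplex (ModuleCat.{u} A) :=
  ShortComplex.mk (ModuleCat.ofHom N.subtype) (ModuleCat.ofHom N.mkQ) (by
    ext x
    exact (Submodule.Quotient.mk_eq_zero _).2 x.2)

theorem subSC_shortExact {M : Type u} [AddCommGroup M] [Module A M] (N : Submodule A M) :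
    (subSC N).ShortExact :=
  ModuleCat.shortComplex_shortExact _ (LinearMap.exact_subtype_mkQ N) Subtype.val_injective
    (Submodule.mkQ_surjective N)

theorem exact_hom {S : ShortComplex (ModuleCat.{u} B)} (h : S.Exact) :
    Function.Exact S.f.hom S.g.hom :=
  (ShortComplex.ShortExact.moduleCat_exact_iff_function_exact S).1 h

variable [F.Additive]

theorem length_ne_top (hF : ∀ S : ShortComplex (ModuleCat.{u} A), S.ShortExact → (S.map F).Exact)
    (hS : ∀ M : ModuleCat.{u} A, IsSimpleModule A M → Module.length B (F.obj M) ≠ ⊤)
    (M : Type u) [AddCommGroup M] [Module A M] (h : IsFiniteLength A M) :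
    Module.length B (F.obj (ModuleCat.of A M)) ≠ ⊤ := by
  induction h with
  | @of_subsingleton M _ _ _ =>
    have h2 : IsZero (F.obj (ModuleCat.of A M)) :=
      F.map_isZero (ModuleCat.isZero_of_subsingleton (ModuleCat.of A M))
    have := ModuleCat.subsingleton_of_isZero h2
    rw [Module.length_eq_zero]
    exact ENat.zero_ne_top
  | @of_simple_quotient M _ _ N hs _ ih =>
    have h1 := length_le _ _ (exact_hom (hF (subSC N) (subSC_shortExact N)))
    have h3 := hS (ModuleCat.of A (M ⧸ N)) hs
    exact ne_top_of_le_ne_top (WithTop.add_ne_top.2 ⟨ih, h3⟩) h1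

theorem main (hF : ∀ S : ShortComplex (ModuleCat.{u} A), S.ShortExact → (S.map F).Exact)
    (hS : ∀ M : ModuleCat.{u} A, IsSimpleModule A M → Module.length B (F.obj M) ≠ ⊤) :
    (∀ E : ModuleCat.{u} A, Module.length A E ≠ ⊤ → Module.length B (F.obj E) ≠ ⊤) ∧
      ∀ S : ShortComplex (ModuleCat.{u} A), S.ShortExact → Module.length A S.X₂ ≠ ⊤ →
        Module.length B (F.obj S.X₂) ≤ Module.length B (F.obj S.X₁) + Module.length B (F.obj S.X₃) ∧
          (Module.length B (F.obj S.X₂) = Module.length B (F.obj S.X₁) + Module.length B (F.obj S.X₃) ↔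
            (S.map F).ShortExact) := by
  have key : ∀ E : ModuleCat.{u} A, Module.length A E ≠ ⊤ → Module.length B (F.obj E) ≠ ⊤ :=
    fun E hE => length_ne_top F hF hS E (Module.length_ne_top_iff.1 hE)
  refine ⟨key, fun S hS' h2 => ?_⟩
  have hex := exact_hom (hF S hS')
  have hmono := hS'.mono_f
  have hepi := hS'.epi_g
  have h1 : Module.length A S.X₁ ≠ ⊤ := ne_top_of_le_ne_top h2
    (Module.length_le_of_injective S.f.hom ((ModuleCat.mono_iff_injective _).1 hmono))
  have h3 : Module.length A S.X₃ ≠ ⊤ := ne_top_of_le_ne_top h2
    (Module.length_le_of_surjective S.g.hom ((ModuleCat.epi_iff_surjective _).1 hepi))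
  refine ⟨length_le _ _ hex, ?_⟩
  have h := length_eq_iff _ _ hex (key _ h1) (key _ h3)
  refine h.trans ⟨?_, ?_⟩
  · rintro ⟨hf, hg⟩
    exact { exact := hF S hS'
            mono_f := (ModuleCat.mono_iff_injective _).2 hf
            epi_g := (ModuleCat.epi_iff_surjective _).2 hg }
  · intro hse
    exact ⟨(ModuleCat.mono_iff_injective _).1 hse.mono_f, (ModuleCat.epi_iff_surjective _).1 hse.epi_g⟩

end Functor

section Local

variable {A : Type u} [CommRing A] [IsLocalRing A] (F : ModuleCat.{u} A ⥤ ModuleCat.{u} A) [F.Additive]

/-- a simple module over a local ring is the residue field. -/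
theorem nonempty_equiv_residueField (M : Type u) [AddCommGroup M] [Module A M]
    (h : IsSimpleModule A M) : Nonempty (M ≃ₗ[A] IsLocalRing.ResidueField A) := by
  obtain ⟨I, hI, ⟨e⟩⟩ := isSimpleModule_iff_quot_maximal.1 h
  obtain rfl := IsLocalRing.eq_maximalIdeal hI
  exact ⟨e⟩

omit [F.Additive] in
theorem length_simple (M : ModuleCat.{u} A) (h : IsSimpleModule A M) :
    Module.length A (F.obj M) =
      Module.length A (F.obj (ModuleCat.of A (IsLocalRing.ResidueField A))) := by
  obtain ⟨e⟩ := nonempty_equiv_residueField M h
  exact (F.mapIso e.toModuleIso).toLinearEquiv.length_eq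

theorem length_le_mul (hF : ∀ S : ShortComplex (ModuleCat.{u} A), S.ShortExact → (S.map F).Exact)
    (M : Type u) [AddCommGroup M] [Module A M] (h : IsFiniteLength A M) :
    Module.length A (F.obj (ModuleCat.of A M)) ≤
      Module.length A (F.obj (ModuleCat.of A (IsLocalRing.ResidueField A))) * Module.length A M := by
  induction h with
  | @of_subsingleton M _ _ _ =>
    have h2 : IsZero (F.obj (ModuleCat.of A M)) :=
      F.map_isZero (ModuleCat.isZero_of_subsingleton (ModuleCat.of A M))
    have := ModuleCat.subsingleton_of_isZero h2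
    rw [Module.length_eq_zero]
    exact bot_le
  | @of_simple_quotient M _ _ N hs _ ih =>
    have h1 := length_le _ _ (exact_hom (hF (subSC N) (subSC_shortExact N)))
    have h3 := length_simple F (ModuleCat.of A (M ⧸ N)) hs
    have h4 : Module.length A M = Module.length A N + 1 := by
      rw [Module.length_eq_add_of_exact N.subtype N.mkQ Subtype.val_injective
        (Submodule.mkQ_surjective N) (LinearMap.exact_subtype_mkQ N)]
      rw [Module.length_eq_one (R := A) (M := M ⧸ N)]
    rw [h4, mul_add, mul_one]
    exact h1.trans (add_le_add ih h3.le)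

theorem length_eq_mul (hF : ∀ S : ShortComplex (ModuleCat.{u} A), S.ShortExact → (S.map F).ShortExact)
    (M : Type u) [AddCommGroup M] [Module A M] (h : IsFiniteLength A M) :
    Module.length A (F.obj (ModuleCat.of A M)) =
      Module.length A (F.obj (ModuleCat.of A (IsLocalRing.ResidueField A))) * Module.length A M := by
  induction h with
  | @of_subsingleton M _ _ _ =>
    have h2 : IsZero (F.obj (ModuleCat.of A M)) :=
      F.map_isZero (ModuleCat.isZero_of_subsingleton (ModuleCat.of A M))
    have := ModuleCat.subsingleton_of_isZero h2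
    rw [Module.length_eq_zero (M := M), mul_zero]
    exact Module.length_eq_zero
  | @of_simple_quotient M _ _ N hs _ ih =>
    have hse := hF (subSC N) (subSC_shortExact N)
    have h1 := Module.length_eq_add_of_exact _ _ ((ModuleCat.mono_iff_injective _).1 hse.mono_f)
      ((ModuleCat.epi_iff_surjective _).1 hse.epi_g) (exact_hom hse.exact)
    have h3 := length_simple F (ModuleCat.of A (M ⧸ N)) hs
    have h4 : Module.length A M = Module.length A N + 1 := by
      rw [Module.length_eq_add_of_exact N.subtype N.mkQ Subtype.val_injective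
        (Submodule.mkQ_surjective N) (LinearMap.exact_subtype_mkQ N)]
      rw [Module.length_eq_one (R := A) (M := M ⧸ N)]
    rw [h4, mul_add, mul_one, ← ih]
    exact h1.trans (congrArg _ h3)

/-- if the length of `F(A)` is maximal then `F` is exact on `0 → m → A → k → 0`. -/
theorem shortExact_of_length_eq
    (hF : ∀ S : ShortComplex (ModuleCat.{u} A), S.ShortExact → (S.map F).Exact)
    (hA : IsFiniteLength A A)
    (hd : Module.length A (F.obj (ModuleCat.of A (IsLocalRing.ResidueField A))) ≠ ⊤)
    (hj : Module.length A (F.obj (ModuleCat.of A A)) =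
      Module.length A (F.obj (ModuleCat.of A (IsLocalRing.ResidueField A))) * Module.length A A) :
    ((subSC (IsLocalRing.maximalIdeal A)).map F).ShortExact := by
  have hS : ∀ M : ModuleCat.{u} A, IsSimpleModule A M → Module.length A (F.obj M) ≠ ⊤ := by
    intro M hM
    rw [length_simple F M hM]
    exact hd
  have hA' : Module.length A A ≠ ⊤ := Module.length_ne_top_iff.2 hA
  obtain ⟨h1, h2⟩ := main F hF hS
  obtain ⟨h3, h4⟩ := h2 _ (subSC_shortExact (IsLocalRing.maximalIdeal A)) hA'
  rw [← h4]
  refine le_antisymm h3 ?_
  have hm : IsFiniteLength A (IsLocalRing.maximalIdeal A) :=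
    hA.of_injective (f := (IsLocalRing.maximalIdeal A).subtype) Subtype.val_injective
  have h5 := length_le_mul F hF (IsLocalRing.maximalIdeal A) hm
  have h6 : Module.length A A = Module.length A (IsLocalRing.maximalIdeal A) + 1 := by
    have hs : IsSimpleModule A (A ⧸ IsLocalRing.maximalIdeal A) :=
      isSimpleModule_iff_quot_maximal.2 ⟨_, inferInstance, ⟨LinearEquiv.refl _ _⟩⟩
    rw [Module.length_eq_add_of_exact (IsLocalRing.maximalIdeal A).subtype
      (IsLocalRing.maximalIdeal A).mkQ Subtype.val_injective
      (Submodule.mkQ_surjective _) (LinearMap.exact_subtype_mkQ _)]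
    rw [Module.length_eq_one (R := A) (M := A ⧸ IsLocalRing.maximalIdeal A)]
  change _ ≤ Module.length A (F.obj (ModuleCat.of A A))
  rw [hj, h6, mul_add, mul_one]
  exact add_le_add h5 le_rfl

end Local

end K97.HalfExactLength
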