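import Groth.Agent.FlatCx.K97.TArt
import Groth.Agent.FlatCx.K97.HalfExactLength
import Groth.Agent.FlatA.LocalCriterion
import Groth.Agent.S2407
import Mathlib.RingTheory.HopkinsLevitzki

/-!
Length criteria for `T_p` over an Artinian local ring; the terms of `P` are only flat.
-/

set_option autoImplicit false
set_option backward.isDefEq.respectTransparency false

universe u

open CategoryTheory CategoryTheory.Limits MonoidalCategory TensorProduct

namespace K97.ArtLength

open Groth.Agent.Ega3A.TFunBasic K97.TArt K97.HalfExactLength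

variable {A : Type u} [CommRing A] [IsArtinianRing A] [IsLocalRing A]
variable (P : ChainComplex (ModuleCat.{u} A) ℤ) (hP : ∀ i, Module.Flat A (P.X i)) (p : ℤ)

omit [IsArtinianRing A] [IsLocalRing A] in
/-- `T_p(A) ≅ N` if `T_p ≅ N ⊗ -`. -/
theorem nonempty_unitEquiv (N : ModuleCat.{u} A) (e : CohIII.TFun P p ≅ tensorLeft N) :
    Nonempty (CohIII.T P p (ModuleCat.of A A) ≃ₗ[A] N) :=
  ⟨(e.app (ModuleCat.of A A)).toLinearEquiv.trans (ρ_ N).toLinearEquiv⟩

theorem isFiniteLength_self : IsFiniteLength A A :=
  (isArtinianRing_iff_isFiniteLength A).1 inferInstance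

omit [IsArtinianRing A] in
theorem flat_quotient (M : Type u) [AddCommGroup M] [Module (A ⧸ IsLocalRing.maximalIdeal A) M] :
    Module.Flat (A ⧸ IsLocalRing.maximalIdeal A) M := by
  have h : IsField (A ⧸ IsLocalRing.maximalIdeal A) :=
    (Ideal.Quotient.maximal_ideal_iff_isField_quotient _).1 inferInstance
  let _ : Field (A ⧸ IsLocalRing.maximalIdeal A) := h.toField
  infer_instance

include hP in
theorem surjective_and_flat
    (hd : Module.length A (CohIII.T P p (ModuleCat.of A (IsLocalRing.ResidueField A))) ≠ ⊤)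
    (hj : Module.length A (CohIII.T P p (ModuleCat.of A A)) =
      Module.length A (CohIII.T P p (ModuleCat.of A (IsLocalRing.ResidueField A))) * Module.length A A) :
    Function.Surjective ((CohIII.TFun P p).map
        (ModuleCat.ofHom (Algebra.linearMap A (IsLocalRing.ResidueField A)))).hom ∧
      Module.Flat A (CohIII.T P p (ModuleCat.of A A)) := by
  have hse := shortExact_of_length_eq (CohIII.TFun P p) (fun S hS => T_exact₂ P hP hS p)
    isFiniteLength_self hd hj
  have hsurj : Function.Surjective ((CohIII.TFun P p).map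
        (ModuleCat.ofHom (Algebra.linearMap A (IsLocalRing.ResidueField A)))).hom :=
    (ModuleCat.epi_iff_surjective _).1 hse.epi_g
  refine ⟨hsurj, ?_⟩
  have hepi : (CohIII.TFun P p).PreservesEpimorphisms :=
    (K97.TArt.preservesEpi_iff_surjective P isNilpotent_maximalIdeal hP p (p - 1) (by simp)).2 hsurj
  obtain ⟨N, ⟨e⟩⟩ := (Groth.Agent.S2407.result P hP p).1 hepi
  obtain ⟨u⟩ := nonempty_unitEquiv P p N e
  rw [Module.Flat.equiv_iff u]
  apply Groth.Agent.FlatA.LocalCriterion.flat_of_isNilpotent (IsLocalRing.maximalIdeal A)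
    isNilpotent_maximalIdeal
  · have h1 : Mono ((CohIII.TFun P p).map (subSC (IsLocalRing.maximalIdeal A)).f) := hse.mono_f
    have h4 : (tensorLeft N).map (subSC (IsLocalRing.maximalIdeal A)).f =
        e.inv.app _ ≫ (CohIII.TFun P p).map (subSC (IsLocalRing.maximalIdeal A)).f ≫ e.hom.app _ := by
      rw [e.hom.naturality, e.inv_hom_id_app_assoc]
    have h5 : Mono ((tensorLeft N).map (subSC (IsLocalRing.maximalIdeal A)).f) := by
      rw [h4]; infer_instance
    rw [ModuleCat.mono_iff_injective] at h5
    rw [← LinearMap.lTensor_inj_iff_rTensor_inj]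
    exact h5
  · exact flat_quotient _

include hP in
theorem exact_of_surjective_of_flat
    (h1 : Function.Surjective ((CohIII.TFun P p).map
        (ModuleCat.ofHom (Algebra.linearMap A (IsLocalRing.ResidueField A)))).hom)
    (h2 : Module.Flat A (CohIII.T P p (ModuleCat.of A A))) :
    (CohIII.TFun P p).PreservesMonomorphisms ∧ (CohIII.TFun P p).PreservesEpimorphisms := by
  have hepi : (CohIII.TFun P p).PreservesEpimorphisms :=
    (K97.TArt.preservesEpi_iff_surjective P isNilpotent_maximalIdeal hP p (p - 1) (by simp)).2 h1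
  obtain ⟨N, ⟨e⟩⟩ := (Groth.Agent.S2407.result P hP p).1 hepi
  obtain ⟨u⟩ := nonempty_unitEquiv P p N e
  have hN : Module.Flat A N := (Module.Flat.equiv_iff u).1 h2
  refine ⟨⟨fun {X Y} f hf => ?_⟩, hepi⟩
  have h4 : (CohIII.TFun P p).map f =
      e.hom.app _ ≫ (tensorLeft N).map f ≫ e.inv.app _ := by
    rw [e.inv.naturality, e.hom_inv_id_app_assoc]
  have h5 : Mono ((tensorLeft N).map f) := by
    rw [ModuleCat.mono_iff_injective] at hf ⊢
    exact Module.Flat.lTensor_preserves_injective_linearMap (M := N) f.hom hf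
  rw [h4]
  infer_instance

include hP in
theorem exact_iff_length
    (hd : Module.length A (CohIII.T P p (ModuleCat.of A (IsLocalRing.ResidueField A))) ≠ ⊤) :
    ((CohIII.TFun P p).PreservesMonomorphisms ∧ (CohIII.TFun P p).PreservesEpimorphisms) ↔
        ∀ M : ModuleCat.{u} A, Module.length A M ≠ ⊤ →
          Module.length A (CohIII.T P p M) =
            Module.length A (CohIII.T P p (ModuleCat.of A (IsLocalRing.ResidueField A))) * Module.length A M := by
  constructor
  · rintro ⟨h1, h2⟩ M hM
    refine length_eq_mul (CohIII.TFun P p) (fun S hS => ?_) M (Module.length_ne_top_iff.1 hM)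
    have := hS.mono_f
    have := hS.epi_g
    exact { exact := T_exact₂ P hP hS p
            mono_f := h1.preserves S.f
            epi_g := h2.preserves S.g }
  · intro h
    obtain ⟨h1, h2⟩ := surjective_and_flat P hP p hd
      (h (ModuleCat.of A A) (Module.length_ne_top_iff.2 isFiniteLength_self))
    exact exact_of_surjective_of_flat P hP p h1 h2

end K97.ArtLength
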