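import Groth.Agent.Ega3A.BcBasic
import Groth.Agent.Ega3A.BcFlat
import Groth.Agent.Ega3A.BcHomology
import Groth.Agent.Ega3A.DRank
import Groth.Agent.Ega3A.TFunFlat

/-!
If `P_q` and `opcycles q` are flat (`c.Rel p q`) then `H_p(P ⊗ B) = B ⊗ H_p(P)` for every algebra `B`;
consequently the rank function `dRank P p` is the fibre rank of `H_p(P)`.
-/

set_option autoImplicit false
set_option backward.isDefEq.respectTransparency false

universe u

open CategoryTheory CategoryTheory.Limits MonoidalCategory TensorProduct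

namespace K97.BcRank

open Groth.Agent.Ega3A.TFunBasic Groth.Agent.Ega3A.BcBasic Groth.Agent.Ega3A.TFunFlat
  Groth.Agent.Ega3A.FlatSES Groth.Agent.Ega3A.FiberRank

variable {A : Type u} [CommRing A] (B : Type u) [CommRing B] [Algebra A B] {ι : Type}
  {c : ComplexShape ι} (P : HomologicalComplex (ModuleCat.{u} A) c)

/-- `H_p(P_B) ≅ B ⊗ H_p(P)` if `P_q` and `opcycles q` are flat. -/
theorem nonempty_homologyBc (p q : ι) (hpq : c.Rel p q) [Module.Flat A (P.X q)]
    [Module.Flat A (P.opcycles q)] :
    Nonempty ((CohIII.bcCx (algebraMap A B) P).homology p ≃ₗ[B] B ⊗[A] (P.homology p)) := by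
  have hR := flat_range_fromOpcycles P p q (c.prev_eq' hpq)
  let φ := (P.fromOpcycles p q).hom
  let r := φ.rangeRestrict
  have hex : Function.Exact (P.homologyι p).hom r := by
    rw [LinearMap.exact_iff, LinearMap.ker_rangeRestrict, ← LinearMap.exact_iff]
    exact exact_homologyι_fromOpcycles P p q (c.next_eq' hpq)
  -- the map `B ⊗ H → B ⊗ opcycles`
  let f1 : B ⊗[A] (P.homology p) →ₗ[B] B ⊗[A] (P.opcycles p) :=
    LinearMap.baseChange B (P.homologyι p).hom
  have hf1 : Function.Injective f1 :=
    lTensor_injective_of_flat (homologyι_injective P p) hex φ.surjective_rangeRestrict B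
  let f2 : (CohIII.bcCx (algebraMap A B) P).homology p →ₗ[B] B ⊗[A] (P.opcycles p) :=
    (opcyclesBcEquiv B P p).toLinearMap ∘ₗ ((CohIII.bcCx (algebraMap A B) P).homologyι p).hom
  have hf2 : Function.Injective f2 :=
    (opcyclesBcEquiv B P p).injective.comp (homologyι_injective _ p)
  have hsub : Function.Injective ((LinearMap.range φ).subtype.lTensor B) :=
    lTensor_injective_of_flat (g := (P.pOpcycles q).hom) (LinearMap.range φ).injective_subtype (by
      rw [LinearMap.exact_iff, Submodule.range_subtype, ← LinearMap.exact_iff]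
      exact exact_fromOpcycles_pOpcycles P p q (c.prev_eq' hpq)) (pOpcycles_surjective P q) B
  have hr1 : ∀ x : B ⊗[A] (P.opcycles p), x ∈ LinearMap.range f1 ↔ φ.lTensor B x = 0 := by
    intro x
    have h1 : x ∈ LinearMap.range f1 ↔ r.lTensor B x = 0 :=
      ((lTensor_exact B hex φ.surjective_rangeRestrict) x).symm
    rw [h1]
    have h2 : φ.lTensor B x = (LinearMap.range φ).subtype.lTensor B (r.lTensor B x) := by
      rw [← LinearMap.comp_apply, ← LinearMap.lTensor_comp]
      rfl
    rw [h2]
    constructor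
    · intro h
      rw [h, map_zero]
    · intro h
      exact hsub (h.trans (map_zero _).symm)
  have hr2 : ∀ x : B ⊗[A] (P.opcycles p), x ∈ LinearMap.range f2 ↔ φ.lTensor B x = 0 := by
    intro x
    obtain ⟨y, rfl⟩ := (opcyclesBcEquiv B P p).surjective x
    have h1 : (opcyclesBcEquiv B P p) y ∈ LinearMap.range f2 ↔
        y ∈ LinearMap.range ((CohIII.bcCx (algebraMap A B) P).homologyι p).hom := by
      constructor
      · rintro ⟨z, hz⟩
        exact ⟨z, (opcyclesBcEquiv B P p).injective hz⟩
      · rintro ⟨z, rfl⟩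
        exact ⟨z, rfl⟩
    have h2 := exact_homologyι_fromOpcycles (CohIII.bcCx (algebraMap A B) P) p q (c.next_eq' hpq) y
    have h3 := fromOpcycles_Bc B P p q y
    rw [h1]
    refine h2.symm.trans ?_
    constructor
    · intro h
      refine h3.symm.trans ?_
      rw [h, map_zero]
    · intro h
      apply (XBcEquiv B P q).injective
      rw [map_zero]
      exact h3.trans h
  have hrange : LinearMap.range f2 = LinearMap.range f1 := by
    ext x
    rw [hr1, hr2]
  exact ⟨(LinearEquiv.ofInjective f2 hf2).trans ((LinearEquiv.ofEq _ _ hrange).trans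
    (LinearEquiv.ofInjective f1 hf1).symm)⟩

theorem dRank_eq_fiberRank (p q : ι) (hpq : c.Rel p q) [Module.Flat A (P.X q)]
    [Module.Flat A (P.opcycles q)] (x : PrimeSpectrum A) :
    CohIII.dRank P p x = fiberRank (P.homology p) x := by
  obtain ⟨e⟩ := nonempty_homologyBc x.asIdeal.ResidueField P p q hpq
  exact e.finrank_eq

variable (P : ChainComplex (ModuleCat.{u} A) ℤ)

/-- `T_p` exact and `T_p(A)` of finite presentation: `dRank` is locally constant. -/
theorem isLocallyConstant_dRank_of_exact (hP : ∀ i, Module.Flat A (P.X i)) (p : ℤ)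
    (hex : (CohIII.TFun P p).PreservesMonomorphisms ∧ (CohIII.TFun P p).PreservesEpimorphisms)
    (hfp : Module.FinitePresentation A (CohIII.T P p (ModuleCat.of A A))) :
    IsLocallyConstant (CohIII.dRank P p) := by
  obtain ⟨h1, h2⟩ := (chain_exact_iff_flat P hP p (p - 1) (by ring)).1 hex
  have := hP (p - 1)
  have h3 : Module.Flat A (P.homology p) :=
    (flat_homology_iff_flat_opcycles P p (p - 1) (by simp)).2 h1
  have h4 : Module.FinitePresentation A (P.homology p) :=
    @Module.FinitePresentation.of_equiv _ _ _ _ _ _ _ _ (TunitEquiv P p) hfp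
  have h5 : CohIII.dRank P p = fiberRank (P.homology p) :=
    funext fun x => dRank_eq_fiberRank P p (p - 1) (by simp) x
  rw [h5]
  exact isLocallyConstant_fiberRank

/-- Exactness up to a degree of the base change in terms of homology. -/
theorem exact_upTo_iff_flat_homology (hP : ∀ i, Module.Flat A (P.X i)) (i₀ : ℤ)
    (hb : ∀ i < i₀, IsZero (P.X i)) (p : ℤ) :
    (∀ q ≤ p, (CohIII.TFun P q).PreservesMonomorphisms ∧
      (CohIII.TFun P q).PreservesEpimorphisms) ↔ ∀ q ≤ p, Module.Flat A (P.homology q) := by
  rw [exact_upTo_iff_flat_upTo P hP i₀ hb p]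
  refine forall_congr' fun q => imp_congr_right fun _ => ?_
  exact Module.Flat.equiv_iff (TunitEquiv P q)

/-- vanishing of `opcycles` below. -/
theorem flat_opcycles_of_isZero (q : ℤ) (h : IsZero (P.X q)) : Module.Flat A (P.opcycles q) := by
  have h0 : IsZero (P.opcycles q) := IsZero.of_epi (P.pOpcycles q) h
  have : Subsingleton (P.opcycles q) := ModuleCat.subsingleton_of_isZero h0
  infer_instance

/-- Over a reduced local ring: constancy of the ranks at the minimal primes gives exactness. -/
theorem flat_opcycles_of_dRank_eq [IsLocalRing A] [IsReduced A]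
    (hP : ∀ i, Module.Flat A (P.X i)) (i₀ : ℤ)
    (hb : ∀ i < i₀, IsZero (P.X i)) (p : ℤ)
    (hfp : ∀ n : ℤ, Module.FinitePresentation A (CohIII.T P n (ModuleCat.of A A)))
    (h : ∀ x : PrimeSpectrum A, x.asIdeal ∈ minimalPrimes A →
          ∀ q ≤ p, CohIII.dRank P q x = CohIII.dRank P q (IsLocalRing.closedPoint A)) :
    ∀ q ≤ p, Module.Flat A (P.opcycles q) := by
  have key : ∀ n : ℕ, ∀ q : ℤ, q < i₀ + n → q ≤ p → Module.Flat A (P.opcycles q) := by
    intro n
    induction n with
    | zero =>
      intro q hq _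
      exact flat_opcycles_of_isZero P q (hb q (by simpa using hq))
    | succ n ih =>
      intro q hq hqp
      have h1 : Module.Flat A (P.opcycles (q - 1)) := ih (q - 1) (by push_cast at hq; omega) (by omega)
      have h2 := hP (q - 1)
      have h3 : Module.FinitePresentation A (P.homology q) :=
        @Module.FinitePresentation.of_equiv _ _ _ _ _ _ _ _ (TunitEquiv P q) (hfp q)
      have h4 : Module.Free A (P.homology q) := by
        apply free_of_reduced_local
        intro x hx
        rw [← dRank_eq_fiberRank P q (q - 1) (by simp) x,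
          ← dRank_eq_fiberRank P q (q - 1) (by simp) (IsLocalRing.closedPoint A)]
        exact h x hx q hqp
      rw [← flat_homology_iff_flat_opcycles P q (q - 1) (by simp)]
      infer_instance
  intro q hq
  exact key (q - i₀ + 1).toNat q (by omega) hq

/-- Generic exactness over a domain. -/
theorem exists_away_flat_homology [IsDomain A] (hP : ∀ i, Module.Flat A (P.X i)) (i₀ : ℤ)
    (hb : ∀ i < i₀, IsZero (P.X i))
    (hfp : ∀ n : ℤ, Module.FinitePresentation A (P.homology n)) (N : ℤ) :
    ∃ f : A, f ≠ 0 ∧ ∀ p ≤ N,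
      Module.Flat (Localization.Away f) ((CohIII.bcCx (algebraMap A (Localization.Away f)) P).homology p) := by
  have h1 : ∀ n : ℤ, ∃ f : A, f ≠ 0 ∧
      (PrimeSpectrum.basicOpen f : Set (PrimeSpectrum A)) ⊆ Module.freeLocus A (P.homology n) := by
    intro n
    have hopen : IsOpen (Module.freeLocus A (P.homology n)) := Module.isOpen_freeLocus
    have hmem : (⟨⊥, Ideal.isPrime_bot⟩ : PrimeSpectrum A) ∈ Module.freeLocus A (P.homology n) := by
      have : IsFractionRing A (Localization.AtPrime (⟨⊥, Ideal.isPrime_bot⟩ : PrimeSpectrum A).asIdeal) := by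
        have h : (nonZeroDivisors A) = (⊥ : Ideal A).primeCompl := by
          ext x
          simp [Ideal.primeCompl]
        unfold IsFractionRing
        rw [h]
        infer_instance
      let _ : Field (Localization.AtPrime (⟨⊥, Ideal.isPrime_bot⟩ : PrimeSpectrum A).asIdeal) :=
        IsFractionRing.toField A
      exact Module.Free.of_divisionRing _ _
    obtain ⟨_, ⟨f, rfl⟩, hf, hsub⟩ :=
      PrimeSpectrum.isTopologicalBasis_basic_opens.exists_subset_of_mem_open hmem hopen
    exact ⟨f, fun h0 => hf h0, hsub⟩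
  choose f hf0 hf using h1
  let s := Finset.Icc i₀ N
  refine ⟨∏ n ∈ s, f n, Finset.prod_ne_zero_iff.2 fun n _ => hf0 n, ?_⟩
  intro p hp
  have e := (Groth.Agent.Ega3A.BcFlat.bcHomologyEquiv (A := A)
    (B := Localization.Away (∏ n ∈ s, f n)) P p)
  rw [Module.Flat.equiv_iff e]
  by_cases hpi : p < i₀
  · have h0 : IsZero (P.homology p) := by
      have h2 : IsZero (P.opcycles p) := IsZero.of_epi (P.pOpcycles p) (hb p hpi)
      exact IsZero.of_mono (P.homologyι p) h2
    have : Subsingleton (P.homology p) := ModuleCat.subsingleton_of_isZero h0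
    infer_instance
  · have hmem : p ∈ s := Finset.mem_Icc.2 ⟨not_lt.1 hpi, hp⟩
    have hsub : (PrimeSpectrum.basicOpen (∏ n ∈ s, f n) : Set (PrimeSpectrum A)) ⊆
        Module.freeLocus A (P.homology p) := by
      refine Set.Subset.trans ?_ (hf p)
      apply (PrimeSpectrum.basicOpen_le_basicOpen_iff_algebraMap_isUnit
        (S := Localization.Away (∏ n ∈ s, f n))).2
      obtain ⟨d, hd⟩ := Finset.dvd_prod_of_mem f hmem
      have h3 : IsUnit (algebraMap A (Localization.Away (∏ n ∈ s, f n)) (∏ n ∈ s, f n)) :=
        IsLocalization.Away.algebraMap_isUnit (∏ n ∈ s, f n)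
      have h5 : algebraMap A (Localization.Away (∏ n ∈ s, f n)) (∏ n ∈ s, f n) =
          algebraMap A (Localization.Away (∏ n ∈ s, f n)) (f p) *
            algebraMap A (Localization.Away (∏ n ∈ s, f n)) d := by
        rw [← map_mul]
        exact congrArg _ hd
      rw [h5] at h3
      exact isUnit_of_mul_isUnit_left h3
    have h4 := Module.basicOpen_subset_freeLocus_iff.1 hsub
    have e2 : (Localization.Away (∏ n ∈ s, f n)) ⊗[A] (P.homology p) ≃ₗ[Localization.Away (∏ n ∈ s, f n)]
        LocalizedModule.Away (∏ n ∈ s, f n) (P.homology p) :=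
      (LocalizedModule.equivTensorProduct _ _).symm
    have h5 : Module.Flat (Localization.Away (∏ n ∈ s, f n))
        (LocalizedModule.Away (∏ n ∈ s, f n) (P.homology p)) := @Module.Flat.of_projective _ _ _ _ _ h4
    exact (Module.Flat.equiv_iff e2).2 h5

end K97.BcRank
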