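import Groth.Agent.Ega3A.FlatSES
import Groth.Agent.Dcoh.DerHo
import Mathlib.Algebra.Category.ModuleCat.Monoidal.Symmetric
import Mathlib.Algebra.Homology.ShortComplex.ModuleCat
import Mathlib.RingTheory.Flat.Basic
import Mathlib.Algebra.Category.ModuleCat.Biproducts
import Mathlib.LinearAlgebra.TensorProduct.Prod

/-!
Bounded above complexes of flat modules: cycles of an exact one are flat, exactness is preserved by
tensoring, quasi-isomorphisms between bounded above flat complexes are preserved by tensoring.
-/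

set_option autoImplicit false
set_option backward.isDefEq.respectTransparency false

universe u

open CategoryTheory CategoryTheory.Limits MonoidalCategory

namespace K97.FlatAcyclic

open Groth.Agent.Ega3A

variable {A : Type u} [CommRing A]

lemma iCycles_injective (F : CochainComplex (ModuleCat.{u} A) ℤ) (i : ℤ) :
    Function.Injective (F.iCycles i).hom := (ModuleCat.mono_iff_injective _).1 inferInstance

lemma exact_iCycles_d (F : CochainComplex (ModuleCat.{u} A) ℤ) (i : ℤ) :
    Function.Exact (F.iCycles i).hom (F.d i (i + 1)).hom := by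
  have h1 : (ShortComplex.mk _ _ (F.iCycles_d i (i + 1))).Exact :=
    ShortComplex.exact_of_f_is_kernel _ (F.cyclesIsKernel i (i + 1) (by simp))
  exact (ShortComplex.ShortExact.moduleCat_exact_iff_function_exact _).1 h1

lemma toCycles_i_apply (F : CochainComplex (ModuleCat.{u} A) ℤ) (i : ℤ) (x : F.X i) :
    (F.iCycles (i + 1)).hom ((F.toCycles i (i + 1)).hom x) = (F.d i (i + 1)).hom x :=
  congr($(F.toCycles_i i (i + 1)).hom x)

lemma exact_iCycles_toCycles (F : CochainComplex (ModuleCat.{u} A) ℤ) (i : ℤ) :
    Function.Exact (F.iCycles i).hom (F.toCycles i (i + 1)).hom := by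
  intro x
  rw [← exact_iCycles_d F i x]
  constructor
  · intro hx
    rw [← toCycles_i_apply, hx, map_zero]
  · intro hx
    apply iCycles_injective F (i + 1)
    rw [toCycles_i_apply, hx, map_zero]

lemma toCycles_surjective (F : CochainComplex (ModuleCat.{u} A) ℤ) (i : ℤ)
    (h : IsZero (F.homology (i + 1))) : Function.Surjective (F.toCycles i (i + 1)).hom := by
  have h3 : (ShortComplex.mk _ _ (F.toCycles_comp_homologyπ i (i + 1))).Exact :=
    ShortComplex.exact_of_g_is_cokernel _ (F.homologyIsCokernel i (i + 1) (by simp))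
  have h4 := (ShortComplex.ShortExact.moduleCat_exact_iff_function_exact _).1 h3
  intro y
  have h5 : Subsingleton (F.homology (i + 1)) := ModuleCat.subsingleton_of_isZero h
  exact (h4 y).1 (Subsingleton.elim _ _)

/-- cycles of a bounded above flat complex, acyclic in degrees `> d`. -/
theorem flat_cycles (F : CochainComplex (ModuleCat.{u} A) ℤ) (hF : ∀ i, Module.Flat A (F.X i))
    (b : ℤ) (hb : ∀ i, b < i → IsZero (F.X i)) (d : ℤ) (hac : ∀ p, d < p → IsZero (F.homology p)) :
    ∀ i : ℤ, d ≤ i → Module.Flat A (F.cycles i) := by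
  have key : ∀ n : ℕ, ∀ i : ℤ, d ≤ i → b < i + n → Module.Flat A (F.cycles i) := by
    intro n
    induction n with
    | zero =>
      intro i hi hbi
      have h0 : IsZero (F.X i) := hb i (by simpa using hbi)
      have h1 : IsZero (F.cycles i) := IsZero.of_mono (F.iCycles i) h0
      have : Subsingleton (F.cycles i) := ModuleCat.subsingleton_of_isZero h1
      infer_instance
    | succ n ih =>
      intro i hi hbi
      have h1 : Module.Flat A (F.cycles (i + 1)) := ih (i + 1) (by omega) (by push_cast at hbi; omega)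
      have h2 := hF i
      exact FlatSES.flat_left (f := (F.iCycles i).hom) (g := (F.toCycles i (i + 1)).hom)
        (iCycles_injective F i) (exact_iCycles_toCycles F i)
        (toCycles_surjective F i (hac (i + 1) (by omega)))
  intro i hi
  exact key (b + 1 - i).toNat i hi (by omega)

lemma exactAt_iff_function (M : CochainComplex (ModuleCat.{u} A) ℤ) (i : ℤ) :
    M.ExactAt (i + 1) ↔ Function.Exact (M.d i (i + 1)).hom (M.d (i + 1) (i + 1 + 1)).hom := by
  rw [M.exactAt_iff' i (i + 1) (i + 1 + 1) (by simp) (by simp),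
    ShortComplex.ShortExact.moduleCat_exact_iff_function_exact]
  rfl

/-- Tensoring a bounded above acyclic complex of flat modules gives an acyclic complex. -/
theorem acyclic_tensor (F : CochainComplex (ModuleCat.{u} A) ℤ) (hF : ∀ i, Module.Flat A (F.X i))
    (hb : ∃ b : ℤ, ∀ i, b < i → IsZero (F.X i)) (hac : F.Acyclic) (M : ModuleCat.{u} A) :
    (((tensorRight M).mapHomologicalComplex (ComplexShape.up ℤ)).obj F).Acyclic := by
  obtain ⟨b, hb⟩ := hb
  have hz : ∀ p, IsZero (F.homology p) := fun p => (hac p).isZero_homology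
  have hfl : ∀ i, Module.Flat A (F.cycles i) := fun i =>
    flat_cycles F hF b hb i (fun p _ => hz p) i le_rfl
  intro j
  obtain ⟨i, rfl⟩ : ∃ i, j = i + 1 := ⟨j - 1, by ring⟩
  rw [exactAt_iff_function]
  change Function.Exact ((F.d i (i + 1)).hom.rTensor M) ((F.d (i + 1) (i + 1 + 1)).hom.rTensor M)
  have h1 : ∀ k, (F.d k (k + 1)).hom = (F.iCycles (k + 1)).hom ∘ₗ (F.toCycles k (k + 1)).hom := by
    intro k
    ext x
    exact (toCycles_i_apply F k x).symm
  have hinj : ∀ k, Function.Injective ((F.iCycles k).hom.rTensor M) := fun k =>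
    FlatSES.rTensor_injective_of_flat (iCycles_injective F k) (exact_iCycles_toCycles F k)
      (toCycles_surjective F k (hz _)) M
  have hex : Function.Exact ((F.iCycles (i + 1)).hom.rTensor M)
      ((F.toCycles (i + 1) (i + 1 + 1)).hom.rTensor M) :=
    rTensor_exact M (exact_iCycles_toCycles F (i + 1)) (toCycles_surjective F (i + 1) (hz _))
  intro x
  rw [h1 (i + 1), h1 i, LinearMap.rTensor_comp, LinearMap.rTensor_comp]
  constructor
  · intro hx
    have h2 : ((F.toCycles (i + 1) (i + 1 + 1)).hom.rTensor M) x = 0 := by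
      apply hinj (i + 1 + 1)
      rw [map_zero]
      exact hx
    obtain ⟨y, rfl⟩ := (hex x).1 h2
    obtain ⟨z, rfl⟩ := LinearMap.rTensor_surjective M (toCycles_surjective F i (hz _)) y
    exact ⟨z, rfl⟩
  · rintro ⟨z, rfl⟩
    change ((F.iCycles (i + 1 + 1)).hom.rTensor M) (((F.toCycles (i + 1) (i + 1 + 1)).hom.rTensor M)
      (((F.iCycles (i + 1)).hom.rTensor M) _)) = 0
    rw [hex.apply_apply_eq_zero, map_zero]

/-- bounded above complexes of flat modules. -/
def flatBdd (A : Type u) [CommRing A] : ObjectProperty (CochainComplex (ModuleCat.{u} A) ℤ) := fun F =>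
  (∀ i, Module.Flat A (F.X i)) ∧ ∃ b : ℤ, ∀ i, b < i → IsZero (F.X i)

lemma flatBdd_cone {K L : CochainComplex (ModuleCat.{u} A) ℤ} (f : K ⟶ L) (hK : flatBdd A K)
    (hL : flatBdd A L) : flatBdd A (CochainComplex.mappingCone f) := by
  obtain ⟨h1, b, hb⟩ := hK
  obtain ⟨h2, b', hb'⟩ := hL
  refine ⟨fun n => ?_, max b b', fun n hn => ?_⟩
  · have := h1 (n + 1)
    have := h2 n
    have h3 : Module.Flat A (K.X (n + 1) × L.X n) :=
      FlatSES.flat_middle (f := LinearMap.inl A (K.X (n + 1)) (L.X n))
        (g := LinearMap.snd A (K.X (n + 1)) (L.X n)) LinearMap.inl_injective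
        Function.Exact.inl_snd LinearMap.snd_surjective
    exact @Module.Flat.of_linearEquiv _ _ _ _ _ _ _ _ h3
      ((HomologicalComplex.homotopyCofiber.XIsoBiprod f n (n + 1) rfl ≪≫
        ModuleCat.biprodIsoProd _ _).toLinearEquiv : _ ≃ₗ[A] (K.X (n + 1) × L.X n))
  · have h3 := hb (n + 1) (by have := le_max_left b b'; omega)
    have h4 := hb' n (by have := le_max_right b b'; omega)
    have h5 : Subsingleton (K.X (n + 1)) := ModuleCat.subsingleton_of_isZero h3
    have h6 : Subsingleton (L.X n) := ModuleCat.subsingleton_of_isZero h4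
    have e : ((CochainComplex.mappingCone f).X n) ≃ₗ[A] (K.X (n + 1) × L.X n) :=
      (HomologicalComplex.homotopyCofiber.XIsoBiprod f n (n + 1) rfl ≪≫
        ModuleCat.biprodIsoProd _ _).toLinearEquiv
    have : Subsingleton ((CochainComplex.mappingCone f).X n) := e.toEquiv.subsingleton
    exact ModuleCat.isZero_of_subsingleton _

theorem quasiIso_tensor (C D : CochainComplex (ModuleCat.{u} A) ℤ)
    (hC : flatBdd A C) (hD : flatBdd A D) (φ : C ⟶ D) [hφ : QuasiIso φ] (M : ModuleCat.{u} A) :
    QuasiIso (((tensorRight M).mapHomologicalComplex (ComplexShape.up ℤ)).map φ) :=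
  Groth.Agent.Dcoh.DerHo.quasiIso_map_of_acyclic (tensorRight M) (flatBdd A)
    (fun f hK hL => flatBdd_cone f hK hL) (fun K hK hac => acyclic_tensor K hK.1 hK.2 hac M) φ hC hD hφ

end K97.FlatAcyclic
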