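import Groth.Agent.FlatCx.K97.BcRank
import Mathlib.RingTheory.Ideal.AssociatedPrime.Finiteness
import Mathlib.RingTheory.Ideal.MinimalPrime.Noetherian

/-!
Noetherian `A`, `P` bounded below and flat with `T_n(A)` finite: `T_n(M)` is finite for every finite `M`,
and the rank functions `dRank P p`, `p ≤ N`, are locally constant on a dense open set.
-/

set_option autoImplicit false
set_option backward.isDefEq.respectTransparency false

universe u

open CategoryTheory CategoryTheory.Limits MonoidalCategory TensorProduct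

namespace K97.GenRank

open Groth.Agent.Ega3A.TFunBasic Groth.Agent.Ega3A.BcBasic Groth.Agent.Ega3A.TFunFlat
  Groth.Agent.Ega3A.FlatSES Groth.Agent.Ega3A.FiberRank K97.BcRank

variable {A : Type u} [CommRing A]

/-- the middle of an exact sequence of modules with finite ends is finite. -/
theorem finite_of_exact [IsNoetherianRing A] (S : ShortComplex (ModuleCat.{u} A)) (hS : S.Exact)
    [Module.Finite A S.X₁] [Module.Finite A S.X₃] : Module.Finite A S.X₂ := by
  have h : Function.Exact S.f.hom S.g.hom :=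
    (ShortComplex.ShortExact.moduleCat_exact_iff_function_exact S).1 hS
  have h1 : (LinearMap.range S.f.hom).FG := by
    rw [← Submodule.map_top]
    exact Submodule.FG.map _ Module.Finite.fg_top
  have h2 : (LinearMap.range S.g.hom).FG := IsNoetherian.noetherian _
  refine ⟨Submodule.fg_of_fg_map_of_fg_inf_ker S.g.hom ?_ ?_⟩
  · rw [Submodule.map_top]
    exact h2
  · rw [top_inf_eq, LinearMap.exact_iff.1 h]
    exact h1

variable (P : ChainComplex (ModuleCat.{u} A) ℤ)

theorem finite_T [IsNoetherianRing A] (hP : ∀ i, Module.Flat A (P.X i)) (i₀ : ℤ)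
    (hb : ∀ i < i₀, IsZero (P.X i))
    (hfg : ∀ n : ℤ, Module.Finite A ((CohIII.TFun P n).obj (ModuleCat.of A A))) :
    ∀ (n : ℤ) (M : ModuleCat.{u} A), Module.Finite A M → Module.Finite A ((CohIII.TFun P n).obj M) := by
  have key : ∀ k : ℕ, ∀ n : ℤ, n < i₀ + k → ∀ (M : ModuleCat.{u} A), Module.Finite A M →
      Module.Finite A ((CohIII.TFun P n).obj M) := by
    intro k
    induction k with
    | zero =>
      intro n hn M _
      have h0 : IsZero ((CohIII.tensorObj P M).X n) :=
        Functor.map_isZero (tensorRight M) (hb n (by simpa using hn))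
      have h1 : IsZero ((CohIII.tensorObj P M).opcycles n) :=
        IsZero.of_epi ((CohIII.tensorObj P M).pOpcycles n) h0
      have h2 : IsZero ((CohIII.TFun P n).obj M) :=
        IsZero.of_mono ((CohIII.tensorObj P M).homologyι n) h1
      have : Subsingleton ((CohIII.TFun P n).obj M) := ModuleCat.subsingleton_of_isZero h2
      infer_instance
    | succ k ih =>
      intro n hn M hM
      have ih' : ∀ (M : ModuleCat.{u} A), Module.Finite A M →
          Module.Finite A ((CohIII.TFun P (n - 1)).obj M) := ih (n - 1) (by push_cast at hn; omega)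
      refine IsNoetherianRing.induction_on_isQuotientEquivQuotientPrime (A := A) (M := M) hM
        (motive := fun N _ _ _ => Module.Finite A ((CohIII.TFun P n).obj (ModuleCat.of A N))) ?_ ?_ ?_
      · intro N _ _ _ _
        have h2 : IsZero ((CohIII.TFun P n).obj (ModuleCat.of A N)) :=
          Functor.map_isZero _ (ModuleCat.isZero_of_subsingleton _)
        have : Subsingleton ((CohIII.TFun P n).obj (ModuleCat.of A N)) :=
          ModuleCat.subsingleton_of_isZero h2
        infer_instance
      · intro N _ _ _ p e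
        let S : ShortComplex (ModuleCat.{u} A) :=
          ShortComplex.mk (ModuleCat.ofHom p.asIdeal.subtype) (ModuleCat.ofHom p.asIdeal.mkQ) (by
            ext x
            exact (Submodule.Quotient.mk_eq_zero _).2 x.2)
        have hS : S.ShortExact := by
          refine ModuleCat.shortComplex_shortExact S ?_ Subtype.val_injective
            (Submodule.mkQ_surjective p.asIdeal)
          exact LinearMap.exact_subtype_mkQ p.asIdeal
        have h1 := T_exact₃ P hP hS n (n - 1) (by simp)
        have h2 : Module.Finite A ((CohIII.TFun P n).obj S.X₂) := hfg n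
        have h3 : Module.Finite A ((CohIII.TFun P (n - 1)).obj S.X₁) :=
          ih' _ (inferInstanceAs (Module.Finite A p.asIdeal))
        have h4 : Module.Finite A ((CohIII.TFun P n).obj S.X₃) :=
          @finite_of_exact A _ _ _ h1 h2 h3
        exact Module.Finite.equiv ((CohIII.TFun P n).mapIso (e.symm.toModuleIso)).toLinearEquiv
      · intro N₁ _ _ _ N₂ _ _ _ N₃ _ _ _ f g hf hg hfg h1 h3
        let S : ShortComplex (ModuleCat.{u} A) :=
          ShortComplex.mk (ModuleCat.ofHom f) (ModuleCat.ofHom g) (by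
            ext x
            exact hfg.apply_apply_eq_zero x)
        have hS : S.ShortExact := ModuleCat.shortComplex_shortExact S hfg hf hg
        exact @finite_of_exact A _ _ _ (T_exact₂ P hP hS n) h1 h3
  intro n
  exact key (n - i₀ + 1).toNat n (by omega)

/-- The homology of the base change to a quotient is finite. -/
theorem finite_homology_bc [IsNoetherianRing A] (hP : ∀ i, Module.Flat A (P.X i)) (i₀ : ℤ)
    (hb : ∀ i < i₀, IsZero (P.X i))
    (hfg : ∀ n : ℤ, Module.Finite A ((CohIII.TFun P n).obj (ModuleCat.of A A)))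
    (B : Type u) [CommRing B] [Algebra A B] [Module.Finite A B] (n : ℤ) :
    Module.Finite B ((CohIII.bcCx (algebraMap A B) P).homology n) := by
  have h0 : Module.Finite A ((ModuleCat.restrictScalars (algebraMap A B)).obj (ModuleCat.of B B)) :=
    Module.Finite.equiv (Groth.Agent.Ega3A.BcHomology.restrictEquiv A B).symm
  have h1 := finite_T P hP i₀ hb hfg n _ h0
  let e := (Groth.Agent.Ega3A.BcHomology.restrictIso (algebraMap A B) P n).toLinearEquiv
  have h2 : Module.Finite A ((ModuleCat.restrictScalars (algebraMap A B)).obj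
      ((CohIII.bcCx (algebraMap A B) P).homology n)) := Module.Finite.equiv e.symm
  obtain ⟨s, hs⟩ := h2.fg_top
  refine ⟨⟨s, ?_⟩⟩
  rw [eq_top_iff]
  rintro x -
  have hx : x ∈ Submodule.span A (s : Set ((ModuleCat.restrictScalars (algebraMap A B)).obj
      ((CohIII.bcCx (algebraMap A B) P).homology n))) := by
    rw [hs]; trivial
  induction hx using Submodule.span_induction with
  | mem x hx => exact Submodule.subset_span hx
  | zero => exact Submodule.zero_mem _
  | add x y _ _ h1 h2 => exact Submodule.add_mem _ h1 h2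
  | smul a x _ h => exact Submodule.smul_mem _ (algebraMap A B a) h

/-- A neighbourhood of a minimal prime on which the rank functions up to `N` are constant. -/
theorem exists_basicOpen [IsNoetherianRing A] (hP : ∀ i, Module.Flat A (P.X i)) (i₀ : ℤ)
    (hb : ∀ i < i₀, IsZero (P.X i))
    (hfg : ∀ n : ℤ, Module.Finite A ((CohIII.TFun P n).obj (ModuleCat.of A A))) (N : ℤ)
    (q : Ideal A) (hq : q ∈ minimalPrimes A) :
    ∃ g : A, g ∉ q ∧ ∀ x y : PrimeSpectrum A, g ∉ x.asIdeal → g ∉ y.asIdeal →
      ∀ p ≤ N, CohIII.dRank P p x = CohIII.dRank P p y := by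
  have hqp : q.IsPrime := hq.1.1
  -- an element in all other minimal primes
  obtain ⟨h, hhq, hh⟩ : ∃ h : A, h ∉ q ∧ ∀ q' ∈ minimalPrimes A, q' ≠ q → h ∈ q' := by
    classical
    have hfin : (minimalPrimes A).Finite := minimalPrimes.finite_of_isNoetherianRing A
    let s := hfin.toFinset.erase q
    have h1 : ¬ (s.inf id ≤ q) := by
      rw [Ideal.IsPrime.inf_le' hqp]
      rintro ⟨q', hq', hle⟩
      have h2 : q' ∈ minimalPrimes A := by
        have := Finset.mem_of_mem_erase hq'
        exact hfin.mem_toFinset.1 this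
      have h3 : q' ≠ q := Finset.ne_of_mem_erase hq'
      exact h3 (le_antisymm hle (hq.2 ⟨h2.1.1, bot_le⟩ hle))
    obtain ⟨h, hh1, hh2⟩ := SetLike.not_le_iff_exists.1 h1
    refine ⟨h, hh2, fun q' hq' hne => ?_⟩
    have h4 : q' ∈ s := Finset.mem_erase.2 ⟨hne, hfin.mem_toFinset.2 hq'⟩
    exact (Finset.inf_le h4 : s.inf id ≤ id q') hh1
  have hVq : ∀ x : PrimeSpectrum A, h ∉ x.asIdeal → q ≤ x.asIdeal := by
    intro x hx
    obtain ⟨q', hq', hle⟩ := Ideal.exists_minimalPrimes_le (bot_le : (⊥ : Ideal A) ≤ x.asIdeal)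
    by_cases he : q' = q
    · exact he ▸ hle
    · exact absurd (hle (hh q' hq' he)) hx
  -- the quotient
  let P' := CohIII.bcCx (algebraMap A (A ⧸ q)) P
  have hP' : ∀ i, Module.Flat (A ⧸ q) (P'.X i) := fun i => by
    have := hP i
    exact flat_X_bc _ P i
  have hb' : ∀ i < i₀, IsZero (P'.X i) := fun i hi =>
    (ModuleCat.extendScalars (algebraMap A (A ⧸ q))).map_isZero (hb i hi)
  have hfin' : ∀ n : ℤ, Module.FinitePresentation (A ⧸ q) (P'.homology n) := fun n => by
    have := finite_homology_bc P hP i₀ hb hfg (A ⧸ q) n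
    exact Module.finitePresentation_of_finite _ _
  obtain ⟨f, hf0, hf⟩ := exists_away_flat_homology P' hP' i₀ hb' hfin' N
  obtain ⟨f', rfl⟩ := Ideal.Quotient.mk_surjective f
  have hf'q : f' ∉ q := fun h => hf0 (Ideal.Quotient.eq_zero_iff_mem.2 h)
  refine ⟨h * f', fun hmem => (hqp.mem_or_mem hmem).elim hhq hf'q, ?_⟩
  let B := Localization.Away (Ideal.Quotient.mk q f')
  let P'' := CohIII.bcCx (algebraMap (A ⧸ q) B) P'
  have hP'' : ∀ i, Module.Flat B (P''.X i) := fun i => by
    have := hP' i
    exact flat_X_bc _ P' i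
  have hb'' : ∀ i < i₀, IsZero (P''.X i) := fun i hi =>
    (ModuleCat.extendScalars (algebraMap (A ⧸ q) B)).map_isZero (hb' i hi)
  have hexact := (exact_upTo_iff_flat_homology P'' hP'' i₀ hb'' N).2 hf
  have hlc : ∀ p ≤ N, IsLocallyConstant (CohIII.dRank P'' p) := by
    intro p hp
    apply isLocallyConstant_dRank_of_exact P'' hP'' p (hexact p hp)
    have h1 := hfin' p
    have h2 : Module.FinitePresentation B (P''.homology p) :=
      Module.FinitePresentation.of_equiv (Groth.Agent.Ega3A.BcFlat.bcHomologyEquiv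
        (A := A ⧸ q) (B := B) P' p).symm
    exact Module.FinitePresentation.of_equiv (TunitEquiv P'' p).symm
  -- every point of `D(h f')` comes from `Spec B`
  have hlift : ∀ x : PrimeSpectrum A, h * f' ∉ x.asIdeal →
      ∃ z : PrimeSpectrum B, ∀ p, CohIII.dRank P'' p z = CohIII.dRank P p x := by
    intro x hx
    have hhx : h ∉ x.asIdeal := fun hmem => hx (Ideal.mul_mem_right _ _ hmem)
    have hfx : f' ∉ x.asIdeal := fun hmem => hx (Ideal.mul_mem_left _ _ hmem)
    have hqx := hVq x hhx
    obtain ⟨y, hy⟩ : ∃ y : PrimeSpectrum (A ⧸ q), PrimeSpectrum.comap (algebraMap A (A ⧸ q)) y = x := by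
      have : x ∈ Set.range (PrimeSpectrum.comap (Ideal.Quotient.mk q)) := by
        rw [_root_.range_comap_of_surjective _ _ Ideal.Quotient.mk_surjective, Ideal.mk_ker]
        exact hqx
      exact this
    have hyf : Ideal.Quotient.mk q f' ∉ y.asIdeal := by
      intro hmem
      apply hfx
      rw [← hy]
      exact hmem
    obtain ⟨z, hz⟩ : ∃ z : PrimeSpectrum B, PrimeSpectrum.comap (algebraMap (A ⧸ q) B) z = y := by
      have : y ∈ Set.range (PrimeSpectrum.comap (algebraMap (A ⧸ q) B)) := by
        rw [PrimeSpectrum.localization_away_comap_range B (Ideal.Quotient.mk q f')]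
        exact hyf
      exact this
    refine ⟨z, fun p => ?_⟩
    rw [Groth.Agent.Ega3A.BcFlat.dRank_bcCx P' p z, hz,
      Groth.Agent.Ega3A.BcFlat.dRank_bcCx P p y, hy]
  intro x y hx hy p hp
  obtain ⟨z, hz⟩ := hlift x hx
  obtain ⟨w, hw⟩ := hlift y hy
  rw [← hz p, ← hw p]
  have hdom : IsDomain B := IsLocalization.isDomain_localization
    (powers_le_nonZeroDivisors_of_noZeroDivisors hf0)
  exact IsLocallyConstant.apply_eq_of_preconnectedSpace (hlc p hp) z w

theorem exists_dense_open [IsNoetherianRing A] (hP : ∀ i, Module.Flat A (P.X i)) (i₀ : ℤ)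
    (hb : ∀ i < i₀, IsZero (P.X i))
    (hfg : ∀ n : ℤ, Module.Finite A ((CohIII.TFun P n).obj (ModuleCat.of A A))) (N : ℤ) :
    ∃ U : Set (PrimeSpectrum A), IsOpen U ∧ Dense U ∧
      ∀ p ≤ N, IsLocallyConstant (fun x : U => CohIII.dRank P p x) := by
  have h1 : ∀ q : minimalPrimes A, ∃ g : A, g ∉ q.1 ∧
      ∀ x y : PrimeSpectrum A, g ∉ x.asIdeal → g ∉ y.asIdeal →
      ∀ p ≤ N, CohIII.dRank P p x = CohIII.dRank P p y := fun q =>
    exists_basicOpen P hP i₀ hb hfg N q.1 q.2
  choose g hg1 hg2 using h1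
  refine ⟨⋃ q, (PrimeSpectrum.basicOpen (g q) : Set (PrimeSpectrum A)),
    isOpen_iUnion fun q => PrimeSpectrum.isOpen_basicOpen, ?_, ?_⟩
  · intro x
    obtain ⟨q, hq, hle⟩ := Ideal.exists_minimalPrimes_le (bot_le : (⊥ : Ideal A) ≤ x.asIdeal)
    have hqp : q.IsPrime := hq.1.1
    have hsp : (⟨q, hqp⟩ : PrimeSpectrum A) ⤳ x :=
      (PrimeSpectrum.le_iff_specializes _ _).1 hle
    have hmem : (⟨q, hqp⟩ : PrimeSpectrum A) ∈
        ⋃ q, (PrimeSpectrum.basicOpen (g q) : Set (PrimeSpectrum A)) :=
      Set.mem_iUnion.2 ⟨⟨q, hq⟩, hg1 ⟨q, hq⟩⟩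
    have := hsp.mem_closed isClosed_closure (subset_closure hmem)
    exact this
  · intro p hp
    rw [IsLocallyConstant.iff_exists_open]
    rintro ⟨x, hx⟩
    obtain ⟨q, hq⟩ := Set.mem_iUnion.1 hx
    refine ⟨Subtype.val ⁻¹' (PrimeSpectrum.basicOpen (g q) : Set (PrimeSpectrum A)),
      PrimeSpectrum.isOpen_basicOpen.preimage continuous_subtype_val, hq, ?_⟩
    rintro ⟨y, hy⟩ hy'
    exact hg2 q y x hy' hq p hp

end K97.GenRank
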