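import Mathlib.Algebra.Module.LocalizedModule.Basic
import Mathlib.Algebra.Module.LocalizedModule.Exact
import Mathlib.RingTheory.LocalProperties.Exactness
import Mathlib.Algebra.Category.ModuleCat.Colimits
import Mathlib.Algebra.Category.ModuleCat.Abelian
import Mathlib.Algebra.Category.ModuleCat.ChangeOfRings
import Mathlib.CategoryTheory.Filtered.Basic
import Mathlib.CategoryTheory.Linear.LinearFunctor
import Mathlib.CategoryTheory.Limits.Preserves.Basic
import Mathlib.Algebra.Homology.ShortComplex.ExactFunctor
import Mathlib.Algebra.Homology.ShortComplex.ModuleCat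

/-!
The localization `S⁻¹ M` as a filtered colimit of copies of `M` indexed by the elements of `S`, and the
isomorphism `T(S⁻¹ M) = S⁻¹ T(M)` for a linear functor `T` commuting with filtered colimits.
-/

set_option autoImplicit false

universe u

open CategoryTheory Limits

namespace K97.LocColim

variable {A : Type u} [CommRing A]

/-- The category with objects the elements of `S` and morphisms `s → t` the `r` with `r s = t`. -/
structure Ix (S : Submonoid A) : Type u where
  /-- the element -/
  val : S

instance (S : Submonoid A) : SmallCategory (Ix S) where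
  Hom s t := {r : A // r * s.val = t.val}
  id s := ⟨1, one_mul _⟩
  comp f g := ⟨g.1 * f.1, by rw [mul_assoc, f.2, g.2]⟩
  id_comp f := Subtype.ext (mul_one _)
  comp_id f := Subtype.ext (one_mul _)
  assoc f g h := Subtype.ext (mul_assoc _ _ _).symm

instance (S : Submonoid A) : IsFiltered (Ix S) where
  nonempty := ⟨⟨1⟩⟩
  cocone_objs s t := ⟨⟨s.val * t.val⟩, ⟨t.val, mul_comm _ _⟩, ⟨s.val, rfl⟩, trivial⟩
  cocone_maps {s t} f g := ⟨⟨s.val * t.val⟩, ⟨s.val, rfl⟩, Subtype.ext (by
    change (s.val : A) * f.1 = s.val * g.1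
    rw [mul_comm, f.2, mul_comm, g.2])⟩

variable (S : Submonoid A)

/-- The constant diagram `M` with transition maps multiplication by `r`. -/
noncomputable def diag (M : ModuleCat.{u} A) : Ix S ⥤ ModuleCat.{u} A where
  obj _ := M
  map r := r.1 • 𝟙 M
  map_id s := one_smul _ _
  map_comp f g := by
    change (g.1 * f.1) • 𝟙 M = (f.1 • 𝟙 M) ≫ (g.1 • 𝟙 M)
    rw [Linear.smul_comp, Linear.comp_smul, Category.id_comp, smul_smul, mul_comm]

/-- `m ↦ m / s`. -/
noncomputable def divMap (M : ModuleCat.{u} A) (s : S) : M →ₗ[A] LocalizedModule S M where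
  toFun m := LocalizedModule.mk m s
  map_add' m m' := by
    rw [LocalizedModule.mk_add_mk, LocalizedModule.mk_eq]
    refine ⟨1, ?_⟩
    simp only [one_smul, Submonoid.smul_def, Submonoid.coe_mul, smul_add, smul_smul]
  map_smul' a m := by
    rw [LocalizedModule.smul'_mk]
    rfl

/-- The cocone with vertex `S⁻¹ M`. -/
noncomputable def cocone (M : ModuleCat.{u} A) : Cocone (diag S M) where
  pt := ModuleCat.of A (LocalizedModule S M)
  ι :=
    { app := fun s => ModuleCat.ofHom (divMap S M s.val)
      naturality := fun s t r => by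
        ext m
        change LocalizedModule.mk (r.1 • m) t.val = LocalizedModule.mk m s.val
        rw [LocalizedModule.mk_eq]
        refine ⟨1, ?_⟩
        simp only [one_smul, Submonoid.smul_def]
        refine (smul_smul _ _ _).trans ?_
        exact congrArg (fun a : A => a • (show M from m)) ((mul_comm _ _).trans r.2) }

/-- `S⁻¹ M` is the colimit. -/
noncomputable def isColimit (M : ModuleCat.{u} A) : IsColimit (cocone S M) where
  desc c := ModuleCat.ofHom
    { toFun := fun x => LocalizedModule.liftOn x (fun p => (c.ι.app ⟨p.2⟩).hom p.1) (by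
        rintro ⟨m, s⟩ ⟨m', s'⟩ ⟨u, hu⟩
        simp only [Submonoid.smul_def] at hu
        have h1 : (c.ι.app ⟨u * s * s'⟩).hom (((u : A) * s') • m) = (c.ι.app ⟨s⟩).hom m := by
          have := congr($(c.w (⟨(u : A) * s', by
            push_cast; ring⟩ : (⟨s⟩ : Ix S) ⟶ ⟨u * s * s'⟩)).hom m)
          exact this
        have h2 : (c.ι.app ⟨u * s * s'⟩).hom (((u : A) * s) • m') = (c.ι.app ⟨s'⟩).hom m' := by
          have := congr($(c.w (⟨(u : A) * s, by
            push_cast; ring⟩ : (⟨s'⟩ : Ix S) ⟶ ⟨u * s * s'⟩)).hom m')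
          exact this
        change (c.ι.app ⟨s⟩).hom m = (c.ι.app ⟨s'⟩).hom m'
        rw [← h1, ← h2, mul_smul, mul_smul, hu])
      map_add' := by
        intro x y
        induction x using LocalizedModule.induction_on with
        | h m s =>
          induction y using LocalizedModule.induction_on with
          | h m' s' =>
            rw [LocalizedModule.mk_add_mk, LocalizedModule.liftOn_mk, LocalizedModule.liftOn_mk,
              LocalizedModule.liftOn_mk]
            have h1 : (c.ι.app ⟨s * s'⟩).hom ((s' : A) • m) = (c.ι.app ⟨s⟩).hom m :=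
              congr($(c.w (⟨(s' : A), by push_cast; ring⟩ : (⟨s⟩ : Ix S) ⟶ ⟨s * s'⟩)).hom m)
            have h2 : (c.ι.app ⟨s * s'⟩).hom ((s : A) • m') = (c.ι.app ⟨s'⟩).hom m' :=
              congr($(c.w (⟨(s : A), by push_cast; ring⟩ : (⟨s'⟩ : Ix S) ⟶ ⟨s * s'⟩)).hom m')
            refine Eq.trans (map_add (c.ι.app ⟨s * s'⟩).hom (show M from (s' : A) • m)
              (show M from (s : A) • m')) ?_
            exact congrArg₂ (· + ·) h1 h2
      map_smul' := by
        intro a x
        induction x using LocalizedModule.induction_on with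
        | h m s =>
          rw [LocalizedModule.smul'_mk, LocalizedModule.liftOn_mk, LocalizedModule.liftOn_mk]
          exact map_smul _ _ _ }
  fac c s := by
    ext m
    rfl
  uniq c f h := by
    ext x
    induction x using LocalizedModule.induction_on with
    | h m s =>
      have := congr($(h ⟨s⟩).hom m)
      exact this

variable (T : ModuleCat.{u} A ⥤ ModuleCat.{u} A) [T.Additive] [T.Linear A]

/-- `diag` commutes with linear functors. -/
noncomputable def diagIso (M : ModuleCat.{u} A) : diag S M ⋙ T ≅ diag S (T.obj M) :=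
  NatIso.ofComponents (fun _ => Iso.refl _) (fun {s t} r => by
    change T.map (r.1 • 𝟙 M) ≫ 𝟙 _ = 𝟙 _ ≫ (r.1 • 𝟙 (T.obj M))
    rw [Functor.map_smul, CategoryTheory.Functor.map_id, Category.comp_id, Category.id_comp])

/-- `T(S⁻¹M)` and `S⁻¹T(M)` are isomorphic. -/
noncomputable def locIso (M : ModuleCat.{u} A) [PreservesColimitsOfShape (Ix S) T] :
    ModuleCat.of A (LocalizedModule S (T.obj M)) ≅ T.obj (ModuleCat.of A (LocalizedModule S M)) :=
  IsColimit.coconePointsIsoOfNatIso (isColimit S (T.obj M)) (isColimitOfPreserves T (isColimit S M))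
    (diagIso S T M).symm

lemma mk_locIso (M : ModuleCat.{u} A) [PreservesColimitsOfShape (Ix S) T] :
    ModuleCat.ofHom (LocalizedModule.mkLinearMap S (T.obj M)) ≫ (locIso S T M).hom =
      T.map (ModuleCat.ofHom (LocalizedModule.mkLinearMap S M)) := by
  have h := IsColimit.comp_coconePointsIsoOfNatIso_hom (isColimit S (T.obj M))
    (isColimitOfPreserves T (isColimit S M)) (diagIso S T M).symm (⟨1⟩ : Ix S)
  refine Eq.trans ?_ (h.trans ?_)
  · rfl
  · change 𝟙 _ ≫ T.map _ = _
    rw [Category.id_comp]
    rfl

theorem isLocalizedModule (M : ModuleCat.{u} A) [PreservesColimitsOfShape (Ix S) T] :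
    IsLocalizedModule S (T.map (ModuleCat.ofHom (LocalizedModule.mkLinearMap S M) :
      M ⟶ ModuleCat.of A (LocalizedModule S M))).hom := by
  rw [← mk_locIso]
  exact IsLocalizedModule.of_linearEquiv S (LocalizedModule.mkLinearMap S (T.obj M))
    (locIso S T M).toLinearEquiv

end K97.LocColim
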