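import Groth.Agent.FlatCx.K97.LocColim
import Mathlib.RingTheory.Localization.Module
import Mathlib.RingTheory.Localization.AtPrime.Basic

/-!
Exactness of a linear functor commuting with filtered colimits can be tested at the maximal ideals.
-/

set_option autoImplicit false

universe u

open CategoryTheory Limits

namespace K97.LocExact

open K97.LocColim

variable {A : Type u} [CommRing A] (S : Submonoid A)
variable (T : ModuleCat.{u} A ⥤ ModuleCat.{u} A) [T.Additive] [T.Linear A]

theorem isLocalizedModule_map {M M' : ModuleCat.{u} A} (f : M ⟶ M') [PreservesColimitsOfShape (Ix S) T]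
    [hf : IsLocalizedModule S f.hom] : IsLocalizedModule S (T.map f).hom := by
  let e : LocalizedModule S M ≃ₗ[A] M' := IsLocalizedModule.iso S f.hom
  have h1 : f = (ModuleCat.ofHom (LocalizedModule.mkLinearMap S M) :
      M ⟶ ModuleCat.of A (LocalizedModule S M)) ≫ e.toModuleIso.hom := by
    ext x
    exact (IsLocalizedModule.iso_mk_one S f.hom x).symm
  have h2 : (T.map f).hom = (T.mapIso e.toModuleIso).toLinearEquiv.toLinearMap ∘ₗ
      (T.map (ModuleCat.ofHom (LocalizedModule.mkLinearMap S M) :
      M ⟶ ModuleCat.of A (LocalizedModule S M))).hom := by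
    conv_lhs => rw [h1, T.map_comp]
    rfl
  rw [h2]
  have := isLocalizedModule S T M
  exact IsLocalizedModule.of_linearEquiv S _ _

section

variable (m : Ideal A) [m.IsMaximal]

/-- the localization at `m`, as a functor on objects. -/
noncomputable abbrev locObj (M : ModuleCat.{u} A) : ModuleCat.{u} (Localization.AtPrime m) :=
  ModuleCat.of (Localization.AtPrime m) (LocalizedModule m.primeCompl M)

/-- `M → M_m` over `A`. -/
noncomputable def locMap (M : ModuleCat.{u} A) :
    M ⟶ (ModuleCat.restrictScalars (algebraMap A (Localization.AtPrime m))).obj (locObj m M) :=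
  ModuleCat.ofHom (Y := (ModuleCat.restrictScalars (algebraMap A (Localization.AtPrime m))).obj
    (locObj m M))
    { toFun := fun x => LocalizedModule.mkLinearMap m.primeCompl M x
      map_add' := map_add _
      map_smul' := fun a x => by
        refine (map_smul (LocalizedModule.mkLinearMap m.primeCompl M) a x).trans ?_
        exact (algebraMap_smul (Localization.AtPrime m) a
          (LocalizedModule.mkLinearMap m.primeCompl M x)).symm }

/-- the identity as an `A`-linear equivalence. -/
noncomputable def resEquiv (M : ModuleCat.{u} A) :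
    LocalizedModule m.primeCompl M ≃ₗ[A]
      ((ModuleCat.restrictScalars (algebraMap A (Localization.AtPrime m))).obj (locObj m M)) where
  toFun x := x
  invFun x := x
  left_inv _ := rfl
  right_inv _ := rfl
  map_add' _ _ := rfl
  map_smul' a x := (algebraMap_smul (Localization.AtPrime m) a x).symm

instance isLocalizedModule_locMap (M : ModuleCat.{u} A) :
    IsLocalizedModule m.primeCompl (locMap m M).hom :=
  IsLocalizedModule.of_linearEquiv m.primeCompl (LocalizedModule.mkLinearMap m.primeCompl M)
    (resEquiv m M)

/-- the localized morphism. -/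
noncomputable def locHom {M N : ModuleCat.{u} A} (f : M ⟶ N) : locObj m M ⟶ locObj m N :=
  ModuleCat.ofHom (LocalizedModule.map m.primeCompl f.hom)

lemma locHom_comp {M N : ModuleCat.{u} A} (f : M ⟶ N) :
    locMap m M ≫ (ModuleCat.restrictScalars (algebraMap A (Localization.AtPrime m))).map (locHom m f) =
      f ≫ locMap m N := by
  ext x
  change LocalizedModule.map m.primeCompl f.hom (LocalizedModule.mkLinearMap m.primeCompl M x) =
    LocalizedModule.mkLinearMap m.primeCompl N (f.hom x)
  simp [LocalizedModule.mkLinearMap_apply, LocalizedModule.map_mk]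

/-- the localized short complex. -/
noncomputable def locSC (X : ShortComplex (ModuleCat.{u} A)) :
    ShortComplex (ModuleCat.{u} (Localization.AtPrime m)) :=
  ShortComplex.mk (locHom m X.f) (locHom m X.g) (by
    ext x
    induction x using LocalizedModule.induction_on with
    | h x s =>
      change LocalizedModule.map m.primeCompl X.g.hom (LocalizedModule.map m.primeCompl X.f.hom
        (LocalizedModule.mk x s)) = 0
      rw [LocalizedModule.map_mk, LocalizedModule.map_mk]
      have : X.g.hom (X.f.hom x) = 0 := congr($(X.zero).hom x)
      rw [this, LocalizedModule.zero_mk])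

theorem locSC_shortExact (X : ShortComplex (ModuleCat.{u} A)) (hX : X.ShortExact) :
    (locSC m X).ShortExact := by
  have h1 : Function.Exact X.f.hom X.g.hom :=
    (ShortComplex.ShortExact.moduleCat_exact_iff_function_exact X).1 hX.exact
  refine ModuleCat.shortComplex_shortExact _ ?_ ?_ ?_
  · exact LocalizedModule.map_exact m.primeCompl X.f.hom X.g.hom h1
  · exact LocalizedModule.map_injective m.primeCompl X.f.hom
      ((ModuleCat.mono_iff_injective _).1 hX.mono_f)
  · exact LocalizedModule.map_surjective m.primeCompl X.g.hom
      ((ModuleCat.epi_iff_surjective _).1 hX.epi_g)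

variable [PreservesColimitsOfShape (Ix m.primeCompl) T]

/-- `T(f_m)` is the localization of `T(f)`. -/
theorem map_locHom {M N : ModuleCat.{u} A} (f : M ⟶ N) :
    haveI := isLocalizedModule_map m.primeCompl T (locMap m M)
    haveI := isLocalizedModule_map m.primeCompl T (locMap m N)
    IsLocalizedModule.map m.primeCompl (T.map (locMap m M)).hom (T.map (locMap m N)).hom (T.map f).hom =
      (T.map ((ModuleCat.restrictScalars (algebraMap A (Localization.AtPrime m))).map (locHom m f))).hom := by
  have i1 := isLocalizedModule_map m.primeCompl T (locMap m M)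
  have i2 := isLocalizedModule_map m.primeCompl T (locMap m N)
  apply IsLocalizedModule.linearMap_ext m.primeCompl (T.map (locMap m M)).hom (T.map (locMap m N)).hom
  rw [IsLocalizedModule.map_comp]
  have h := congrArg ModuleCat.Hom.hom (congrArg T.map (locHom_comp m f))
  rw [T.map_comp, T.map_comp] at h
  exact h.symm

end

variable (hT : ∀ (J : Type u) [SmallCategory J] [IsFiltered J], PreservesColimitsOfShape J T)

include hT

theorem preservesFiniteLimits (h : ∀ (m : Ideal A) [m.IsMaximal],
    PreservesFiniteLimits (ModuleCat.restrictScalars (algebraMap A (Localization.AtPrime m)) ⋙ T)) :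
    PreservesFiniteLimits T := by
  refine ((Functor.preservesFiniteLimits_tfae T).out 0 3).1 fun X hX => ?_
  have key : ∀ (m : Ideal A) [m.IsMaximal],
      ((locSC m X).map (ModuleCat.restrictScalars (algebraMap A (Localization.AtPrime m)) ⋙ T)).Exact ∧
        Mono ((ModuleCat.restrictScalars (algebraMap A (Localization.AtPrime m)) ⋙ T).map
          (locSC m X).f) := fun m _ => by
    have h1 := ((Functor.preservesFiniteLimits_tfae
      (ModuleCat.restrictScalars (algebraMap A (Localization.AtPrime m)) ⋙ T)).out 3 0).1 (h m)
    exact h1 (locSC m X) (locSC_shortExact m X hX)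
  have i' : ∀ (m : Ideal A) [m.IsMaximal], PreservesColimitsOfShape (Ix m.primeCompl) T :=
    fun m _ => hT (Ix m.primeCompl)
  have i : ∀ (M : ModuleCat.{u} A) (m : Ideal A) [m.IsMaximal],
      IsLocalizedModule m.primeCompl (T.map (locMap m M)).hom := fun M m _ =>
    isLocalizedModule_map m.primeCompl T (locMap m M)
  constructor
  · rw [ShortComplex.ShortExact.moduleCat_exact_iff_function_exact]
    refine exact_of_isLocalized_maximal _ (fun m _ => (T.map (locMap m X.X₁)).hom) _
      (fun m _ => (T.map (locMap m X.X₂)).hom) _ (fun m _ => (T.map (locMap m X.X₃)).hom)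
      (T.map X.f).hom (T.map X.g).hom ?_
    intro m _
    rw [map_locHom, map_locHom]
    exact (ShortComplex.ShortExact.moduleCat_exact_iff_function_exact _).1 (key m).1
  · rw [ModuleCat.mono_iff_injective]
    refine injective_of_isLocalized_maximal _ (fun m _ => (T.map (locMap m X.X₁)).hom) _
      (fun m _ => (T.map (locMap m X.X₂)).hom) (T.map X.f).hom ?_
    intro m _
    rw [map_locHom]
    exact (ModuleCat.mono_iff_injective _).1 (key m).2

theorem preservesFiniteColimits (h : ∀ (m : Ideal A) [m.IsMaximal],
    PreservesFiniteColimits (ModuleCat.restrictScalars (algebraMap A (Localization.AtPrime m)) ⋙ T)) :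
    PreservesFiniteColimits T := by
  refine ((Functor.preservesFiniteColimits_tfae T).out 0 3).1 fun X hX => ?_
  have key : ∀ (m : Ideal A) [m.IsMaximal],
      ((locSC m X).map (ModuleCat.restrictScalars (algebraMap A (Localization.AtPrime m)) ⋙ T)).Exact ∧
        Epi ((ModuleCat.restrictScalars (algebraMap A (Localization.AtPrime m)) ⋙ T).map
          (locSC m X).g) := fun m _ => by
    have h1 := ((Functor.preservesFiniteColimits_tfae
      (ModuleCat.restrictScalars (algebraMap A (Localization.AtPrime m)) ⋙ T)).out 3 0).1 (h m)
    exact h1 (locSC m X) (locSC_shortExact m X hX)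
  have i' : ∀ (m : Ideal A) [m.IsMaximal], PreservesColimitsOfShape (Ix m.primeCompl) T :=
    fun m _ => hT (Ix m.primeCompl)
  have i : ∀ (M : ModuleCat.{u} A) (m : Ideal A) [m.IsMaximal],
      IsLocalizedModule m.primeCompl (T.map (locMap m M)).hom := fun M m _ =>
    isLocalizedModule_map m.primeCompl T (locMap m M)
  constructor
  · rw [ShortComplex.ShortExact.moduleCat_exact_iff_function_exact]
    refine exact_of_isLocalized_maximal _ (fun m _ => (T.map (locMap m X.X₁)).hom) _
      (fun m _ => (T.map (locMap m X.X₂)).hom) _ (fun m _ => (T.map (locMap m X.X₃)).hom)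
      (T.map X.f).hom (T.map X.g).hom ?_
    intro m _
    rw [map_locHom, map_locHom]
    exact (ShortComplex.ShortExact.moduleCat_exact_iff_function_exact _).1 (key m).1
  · rw [ModuleCat.epi_iff_surjective]
    refine surjective_of_isLocalized_maximal _ (fun m _ => (T.map (locMap m X.X₂)).hom) _
      (fun m _ => (T.map (locMap m X.X₃)).hom) (T.map X.g).hom ?_
    intro m _
    rw [map_locHom]
    exact (ModuleCat.epi_iff_surjective _).1 (key m).2

end K97.LocExact
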