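import Groth.Agent.Ega3A.LocalT2
import Groth.Agent.Sga3C.QuotNil
import Mathlib.RingTheory.Artinian.Ring

/-!
`T_p` of a complex of flat modules over a local ring with nilpotent maximal ideal: no finiteness on the
terms.  `T_p` preserves epimorphisms iff `T_p(A) → T_p(k)` is onto.
-/

set_option autoImplicit false
set_option backward.isDefEq.respectTransparency false

universe u

open CategoryTheory CategoryTheory.Limits MonoidalCategory TensorProduct

namespace K97.TArt

open Groth.Agent.Ega3A.TFunBasic Groth.Agent.Ega3A.LocalT Groth.Agent.Ega3A.LocalT2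

variable {A : Type u} [CommRing A] [IsLocalRing A] {ι : Type} {c : ComplexShape ι}
variable (P : HomologicalComplex (ModuleCat.{u} A) c)

/-- `T_p(A) → T_p(k)` onto means: cycles of `opcycles ⊗ k` lift to cycles of `opcycles`. -/
theorem lift_of_surjective (p q : ι) (hpq : c.Rel p q)
    (h : Function.Surjective ((CohIII.TFun P p).map (ModuleCat.ofHom
      (Algebra.linearMap A (IsLocalRing.ResidueField A)))).hom)
    (x : P.opcycles p ⊗[A] IsLocalRing.ResidueField A)
    (hx : (P.fromOpcycles p q).hom.rTensor (IsLocalRing.ResidueField A) x = 0) :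
    ∃ z : P.opcycles p, (P.fromOpcycles p q).hom z = 0 ∧
      x = z ⊗ₜ[A] (1 : IsLocalRing.ResidueField A) := by
  have h1 : x ∈ LinearMap.range (ιTc P p (ModuleCat.of A (IsLocalRing.ResidueField A))).hom := by
    rw [ιTc_range P p _ q (c.next_eq' hpq)]
    exact hx
  obtain ⟨y, rfl⟩ := h1
  obtain ⟨w, rfl⟩ := h y
  rw [ιTc_naturality_apply]
  have h2 : (ιTc P p (ModuleCat.of A A)).hom w ∈
      LinearMap.ker (LinearMap.rTensor A (P.fromOpcycles p q).hom) := by
    have := ιTc_range P p (ModuleCat.of A A) q (c.next_eq' hpq)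
    rw [← this]
    exact ⟨w, rfl⟩
  obtain ⟨z, hz⟩ : ∃ z : P.opcycles p, (ιTc P p (ModuleCat.of A A)).hom w =
      z ⊗ₜ[A] (1 : A) :=
    ⟨TensorProduct.rid A _ ((ιTc P p (ModuleCat.of A A)).hom w), by
      apply (TensorProduct.rid A _).injective
      simp⟩
  rw [hz] at h2 ⊢
  refine ⟨z, ?_, ?_⟩
  · have h3 : (P.fromOpcycles p q).hom z ⊗ₜ[A] (1 : A) = 0 := h2
    have := congrArg (TensorProduct.rid A _) h3
    simpa using this
  · change z ⊗ₜ[A] (algebraMap A (IsLocalRing.ResidueField A) 1) = _
    rw [map_one]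

/-- `opcycles` is flat one degree below if `T_p(A) → T_p(k)` is onto (nilpotent maximal ideal). -/
theorem flat_opcycles_of_surjective (hm : IsNilpotent (IsLocalRing.maximalIdeal A))
    (p q : ι) (hpq : c.Rel p q) [Module.Flat A (P.X q)]
    (h : Function.Surjective ((CohIII.TFun P p).map (ModuleCat.ofHom
      (Algebra.linearMap A (IsLocalRing.ResidueField A)))).hom) :
    Module.Flat A (P.opcycles q) := by
  let α := (LinearMap.ker (P.fromOpcycles p q).hom).subtype
  let β := (P.fromOpcycles p q).hom
  have hαβ : β ∘ₗ α = 0 := by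
    ext x
    exact x.2
  have h0 : Function.Exact (α.lTensor (A ⧸ IsLocalRing.maximalIdeal A))
      (β.lTensor (A ⧸ IsLocalRing.maximalIdeal A)) := by
    intro x
    constructor
    · intro hx
      obtain ⟨z, hz, hxz⟩ := lift_of_surjective P p q hpq h (TensorProduct.comm A _ _ x) (by
        have : (β.rTensor (A ⧸ IsLocalRing.maximalIdeal A)) (TensorProduct.comm A _ _ x) =
          TensorProduct.comm A _ _ (β.lTensor (A ⧸ IsLocalRing.maximalIdeal A) x) := by
          rw [LinearMap.rTensor_def, LinearMap.lTensor_def]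
          exact TensorProduct.map_comm _ _ _ |>.trans rfl
        refine this.trans ?_
        rw [hx, map_zero])
      refine ⟨(1 : A ⧸ IsLocalRing.maximalIdeal A) ⊗ₜ[A] ⟨z, hz⟩, ?_⟩
      apply (TensorProduct.comm A _ _).injective
      refine Eq.trans ?_ hxz.symm
      rfl
    · rintro ⟨y, rfl⟩
      rw [← LinearMap.comp_apply, ← LinearMap.lTensor_comp, hαβ]
      simp
  have hinj : ∀ (M : Type u) [AddCommGroup M] [Module A M], Function.Injective
      ((LinearMap.range (P.fromOpcycles p q).hom).subtype.rTensor M) := by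
    intro M _ _
    rw [← LinearMap.lTensor_inj_iff_rTensor_inj]
    have h1 := Groth.Agent.Sga3C.QuotNil.lTensor_liftQ_injective (IsLocalRing.maximalIdeal A) α β hαβ
      hm h0 M
    rw [injective_iff_map_eq_zero] at h1 ⊢
    intro z hz
    obtain ⟨x, rfl⟩ := LinearMap.lTensor_surjective M (LinearMap.surjective_rangeRestrict β) z
    have h2 : β.lTensor M x = 0 := by
      rw [← hz, ← LinearMap.comp_apply, ← LinearMap.lTensor_comp]
      rfl
    have h3 : (LinearMap.range α).mkQ.lTensor M x = 0 := by
      apply h1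
      rw [← LinearMap.comp_apply, ← LinearMap.lTensor_comp, Submodule.liftQ_mkQ, h2]
    have h4 : (LinearMap.range α) ≤ LinearMap.ker β.rangeRestrict := by
      rw [LinearMap.ker_rangeRestrict, Submodule.range_subtype]
    have h5 : β.rangeRestrict = ((LinearMap.range α).liftQ β.rangeRestrict h4) ∘ₗ
        (LinearMap.range α).mkQ := (Submodule.liftQ_mkQ _ _ h4).symm
    rw [h5, LinearMap.lTensor_comp, LinearMap.comp_apply, h3, map_zero]
  exact Groth.Agent.Ega3A.FlatSES.flat_right (f := (LinearMap.range (P.fromOpcycles p q).hom).subtype)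
    (g := (P.pOpcycles q).hom) (by
      rw [LinearMap.exact_iff, Submodule.range_subtype, ← LinearMap.exact_iff]
      exact Groth.Agent.Ega3A.LocalT.exact_fromOpcycles_pOpcycles P hpq)
    (Groth.Agent.Ega3A.LocalT.pOpcycles_surjective P q) hinj

/-- `T_p` preserves epimorphisms iff `T_p(A) → T_p(k)` is onto. -/
theorem preservesEpi_iff_surjective (hm : IsNilpotent (IsLocalRing.maximalIdeal A))
    (hP : ∀ i, Module.Flat A (P.X i)) (p q : ι) (hpq : c.Rel p q) :
    (CohIII.TFun P p).PreservesEpimorphisms ↔
      Function.Surjective ((CohIII.TFun P p).map (ModuleCat.ofHom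
        (Algebra.linearMap A (IsLocalRing.ResidueField A)))).hom := by
  refine ⟨surjective_of_preservesEpi P p, fun h => ?_⟩
  have := hP q
  have := flat_opcycles_of_surjective P hm p q hpq h
  rw [preservesEpi_iff_preservesMono P hP p q hpq]
  exact preservesMono_of_flat P q

theorem isNilpotent_maximalIdeal [IsArtinianRing A] : IsNilpotent (IsLocalRing.maximalIdeal A) := by
  have h := IsArtinianRing.isNilpotent_jacobson_bot (R := A)
  rwa [IsLocalRing.jacobson_eq_maximalIdeal ⊥ bot_ne_top] at h

end K97.TArt
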