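import Groth.Agent.Ega3A.LocalT2
import Groth.Agent.FlatCx.K97.TArt
import Mathlib.RingTheory.Filtration
import Mathlib.LinearAlgebra.TensorProduct.Quotient
import Mathlib.RingTheory.LocalProperties.Projective
import Mathlib.RingTheory.LocalRing.ResidueField.Ideal

/-!
* over a Noetherian local ring: surjectivity of all `T_p(A/m^(n+1)) → T_p(A/m)` implies that of
  `T_p(A) → T_p(k)` (Artin-Rees);
* over a Noetherian ring: the cokernel of `φ : Z → Q` is projective if `φ ⊗ A/m` is injective for all
  maximal ideals `m` (`Q` finite projective).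
-/

set_option autoImplicit false
set_option backward.isDefEq.respectTransparency false

universe u

open CategoryTheory CategoryTheory.Limits MonoidalCategory TensorProduct

namespace K97.LocalAdic

open Groth.Agent.Ega3A.TFunBasic Groth.Agent.Ega3A.LocalT Groth.Agent.Ega3A.LocalT2

section AR

variable {A : Type u} [CommRing A]

theorem exists_tmul_one (Z : Type*) [AddCommGroup Z] [Module A Z] (I : Ideal A) (x : Z ⊗[A] (A ⧸ I)) :
    ∃ z : Z, x = z ⊗ₜ[A] (1 : A ⧸ I) := by
  induction x using TensorProduct.induction_on with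
  | zero => exact ⟨0, by simp⟩
  | tmul z a =>
    obtain ⟨a, rfl⟩ := Ideal.Quotient.mk_surjective a
    refine ⟨a • z, ?_⟩
    rw [TensorProduct.smul_tmul]
    congr 1
    rw [Algebra.smul_def, mul_one]
    rfl
  | add x y hx hy =>
    obtain ⟨z, rfl⟩ := hx
    obtain ⟨w, rfl⟩ := hy
    exact ⟨z + w, (TensorProduct.add_tmul _ _ _).symm⟩

theorem tmul_one_eq_zero_iff (Z : Type*) [AddCommGroup Z] [Module A Z] (I : Ideal A) (z : Z) :
    z ⊗ₜ[A] (1 : A ⧸ I) = 0 ↔ z ∈ I • (⊤ : Submodule A Z) := by
  rw [← (TensorProduct.tensorQuotEquivQuotSMul Z I).map_eq_zero_iff]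
  have : TensorProduct.tensorQuotEquivQuotSMul Z I (z ⊗ₜ[A] (1 : A ⧸ I)) =
      Submodule.Quotient.mk z := by
    have := TensorProduct.tensorQuotEquivQuotSMul_tmul_mk I z (1 : A)
    rw [map_one, one_smul] at this
    exact this
  rw [this, Submodule.Quotient.mk_eq_zero]

variable [IsLocalRing A] [IsNoetherianRing A] {ι : Type} {c : ComplexShape ι}
variable (P : HomologicalComplex (ModuleCat.{u} A) c)

theorem surjective_of_adic (p q : ι) (hpq : c.Rel p q) [Module.Finite A (P.X q)]
    (n₀ : ℕ) (h : ∀ n : ℕ, n₀ ≤ n → Function.Surjective ((CohIII.TFun P p).map (ModuleCat.ofHom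
        (Ideal.Quotient.factorₐ A (Ideal.pow_le_self (I := IsLocalRing.maximalIdeal A)
          (Nat.succ_ne_zero n))).toLinearMap :
        ModuleCat.of A (A ⧸ IsLocalRing.maximalIdeal A ^ (n + 1)) ⟶
          ModuleCat.of A (A ⧸ IsLocalRing.maximalIdeal A))).hom) :
    Function.Surjective ((CohIII.TFun P p).map (ModuleCat.ofHom
        (Algebra.linearMap A (IsLocalRing.ResidueField A)))).hom := by
  let m := IsLocalRing.maximalIdeal A
  let φ := (P.fromOpcycles p q).hom
  let E := LinearMap.range φ
  obtain ⟨k, hk⟩ := Ideal.exists_pow_inf_eq_pow_smul m E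
  let n := max n₀ k
  have hn : n₀ ≤ n := le_max_left _ _
  have hAR : m ^ (n + 1) • (⊤ : Submodule A (P.X q)) ⊓ E ≤ m • E := by
    rw [hk (n + 1) ((le_max_right n₀ k).trans (Nat.le_succ _))]
    have h1 : n + 1 - k = (n - k) + 1 := by have := le_max_right n₀ k; omega
    rw [h1, pow_succ', Submodule.mul_smul]
    exact Submodule.smul_mono le_rfl (Submodule.smul_le_right.trans inf_le_right)
  intro t
  obtain ⟨t', ht'⟩ := h n hn t
  obtain ⟨z, hz⟩ := exists_tmul_one (P.opcycles p) (m ^ (n + 1))
    ((ιTc P p (ModuleCat.of A (A ⧸ m ^ (n + 1)))).hom t')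
  have h1 : φ z ⊗ₜ[A] (1 : A ⧸ m ^ (n + 1)) = 0 := by
    have h2 : (ιTc P p (ModuleCat.of A (A ⧸ m ^ (n + 1)))).hom t' ∈
        LinearMap.ker (LinearMap.rTensor (A ⧸ m ^ (n + 1)) (P.fromOpcycles p q).hom) := by
      have := ιTc_range P p (ModuleCat.of A (A ⧸ m ^ (n + 1))) q (c.next_eq' hpq)
      exact this ▸ ⟨t', rfl⟩
    rw [hz] at h2
    exact h2
  rw [tmul_one_eq_zero_iff] at h1
  have h3 : φ z ∈ m • E := hAR ⟨h1, ⟨z, rfl⟩⟩
  have h4 : m • E = Submodule.map φ (m • (⊤ : Submodule A (P.opcycles p))) := by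
    rw [Submodule.map_smul'', Submodule.map_top]
  rw [h4] at h3
  obtain ⟨w, hw, hwz⟩ := h3
  have h5 : z - w ∈ LinearMap.range (ιA P p) := by
    rw [ιA_range P p q (c.next_eq' hpq), LinearMap.mem_ker, map_sub, sub_eq_zero]
    exact hwz.symm
  obtain ⟨s, hs⟩ := h5
  refine ⟨s, ?_⟩
  apply ιTc_injective P p
  have h6 : (ιTc P p (ModuleCat.of A A)).hom s = (z - w) ⊗ₜ[A] (1 : A) := by
    apply (TensorProduct.rid A (P.opcycles p)).injective
    refine Eq.trans hs ?_
    simp
  have h7 : (ιTc P p (ModuleCat.of A (A ⧸ m))).hom t = z ⊗ₜ[A] (1 : A ⧸ m) := by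
    rw [← ht']
    refine (ιTc_naturality_apply P p _ t').trans ?_
    rw [hz]
    change z ⊗ₜ[A] ((Ideal.Quotient.factorₐ A (Ideal.pow_le_self (I := m) (Nat.succ_ne_zero n))) 1) = _
    rw [map_one]
  refine (ιTc_naturality_apply P p _ s).trans (Eq.trans ?_ h7.symm)
  rw [h6]
  change (z - w) ⊗ₜ[A] (algebraMap A (A ⧸ m) 1) = z ⊗ₜ[A] (1 : A ⧸ m)
  rw [map_one, TensorProduct.sub_tmul, (tmul_one_eq_zero_iff _ m w).2 hw, sub_zero]

end AR

section Proj

variable {A : Type u} [CommRing A] {Z Q C : Type u} [AddCommGroup Z] [AddCommGroup Q] [AddCommGroup C]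
  [Module A Z] [Module A Q] [Module A C] (φ : Z →ₗ[A] Q)

/-- injectivity of `φ ⊗ A/m` implies that of `φ ⊗ κ(m)`. -/
theorem lTensor_residueField_injective (m : Ideal A) [m.IsMaximal]
    (h : Function.Injective (φ.lTensor (A ⧸ m))) : Function.Injective (φ.lTensor m.ResidueField) := by
  let e : (A ⧸ m) ≃ₗ[A] m.ResidueField := LinearEquiv.ofBijective
    (IsScalarTower.toAlgHom A (A ⧸ m) m.ResidueField).toLinearMap
    (Ideal.bijective_algebraMap_quotient_residueField m)
  have h1 : (φ.lTensor m.ResidueField) ∘ₗ (e.toLinearMap.rTensor Z) =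
      (e.toLinearMap.rTensor Q) ∘ₗ (φ.lTensor (A ⧸ m)) := by
    rw [LinearMap.lTensor_comp_rTensor, LinearMap.rTensor_comp_lTensor]
  have h2 : Function.Injective ((φ.lTensor m.ResidueField) ∘ₗ (e.toLinearMap.rTensor Z)) := by
    rw [h1]
    exact (LinearEquiv.rTensor Q e).injective.comp h
  intro x y hxy
  obtain ⟨x, rfl⟩ := (LinearEquiv.rTensor Z e).surjective x
  obtain ⟨y, rfl⟩ := (LinearEquiv.rTensor Z e).surjective y
  exact congrArg _ (h2 hxy)

theorem free_localized (m : Ideal A) [m.IsMaximal] [Module.Finite A Z] [Module.Finite A Q]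
    [Module.Flat A Q] (g : Q →ₗ[A] C) (hg : Function.Surjective g) (hex : Function.Exact φ g)
    (h : Function.Injective (φ.lTensor (A ⧸ m))) :
    Module.Free (Localization.AtPrime m) ((Localization.AtPrime m) ⊗[A] C) := by
  let B := Localization.AtPrime m
  have h1 := lTensor_residueField_injective φ m h
  have : Module.Free B (B ⊗[A] Q) := Module.free_of_flat_of_isLocalRing
  refine Module.free_of_lTensor_residueField_injective (f := φ.baseChange B) (g := g.baseChange B)
    (LinearMap.lTensor_surjective B hg) (lTensor_exact B hex hg) ?_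
  have h2 : ∀ x : (IsLocalRing.ResidueField B) ⊗[B] (B ⊗[A] Z),
      TensorProduct.AlgebraTensorModule.cancelBaseChange A B B (IsLocalRing.ResidueField B) Q
        ((φ.baseChange B).lTensor (IsLocalRing.ResidueField B) x) =
      (φ.lTensor (IsLocalRing.ResidueField B))
        (TensorProduct.AlgebraTensorModule.cancelBaseChange A B B (IsLocalRing.ResidueField B) Z x) := by
    intro x
    induction x using TensorProduct.induction_on with
    | zero => simp
    | tmul a y =>
      induction y using TensorProduct.induction_on with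
      | zero => simp
      | tmul b z => simp
      | add y z hy hz =>
        rw [TensorProduct.tmul_add, map_add, map_add, map_add, map_add, hy, hz]
    | add x y hx hy => rw [map_add, map_add, map_add, map_add, hx, hy]
  intro x y hxy
  have h3 := congrArg (TensorProduct.AlgebraTensorModule.cancelBaseChange A B B
    (IsLocalRing.ResidueField B) Q) hxy
  rw [h2, h2] at h3
  exact (TensorProduct.AlgebraTensorModule.cancelBaseChange A B B
    (IsLocalRing.ResidueField B) Z).injective (h1 h3)

theorem projective_coker [IsNoetherianRing A] [Module.Finite A Z] [Module.Finite A Q]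
    [Module.Flat A Q] (g : Q →ₗ[A] C) (hg : Function.Surjective g) (hex : Function.Exact φ g)
    (h : ∀ (m : Ideal A) [m.IsMaximal], Function.Injective (φ.lTensor (A ⧸ m))) :
    Module.Projective A C := by
  have : Module.Finite A C := Module.Finite.of_surjective g hg
  have : Module.FinitePresentation A C := Module.finitePresentation_of_finite A _
  apply Module.projective_of_localization_maximal
  intro m hm
  have h1 := free_localized φ m g hg hex (h m)
  exact Module.Projective.of_equiv (LocalizedModule.equivTensorProduct m.primeCompl C).symm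

end Proj

end K97.LocalAdic
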