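import Groth.Agent.Ega3A.TorLES
import Mathlib.LinearAlgebra.TensorProduct.RightExactness

/-!
For `d : P₁ → P₀` between flat modules: `ker(ker d ⊗ N → P₁ ⊗ N) = Tor_2(coker d, N)` and
`ker(d ⊗ N) / im (ker d ⊗ N) = Tor_1(coker d, N)`.
-/

set_option autoImplicit false

universe u

open CategoryTheory TensorProduct

namespace K97.TwoTerm

open Groth.Agent.Ega3A

variable {A : Type u} [CommRing A] {P₁ P₀ : Type u} [AddCommGroup P₁] [Module A P₁] [AddCommGroup P₀]
  [Module A P₀] (d : P₁ →ₗ[A] P₀) (K : Type u) [AddCommGroup K] [Module A K]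

/-- `0 → ker d → P₁ → range d → 0`. -/
noncomputable def S1 : ShortComplex (ModuleCat.{u} A) :=
  ShortComplex.mk (X₁ := ModuleCat.of A (LinearMap.ker d)) (X₂ := ModuleCat.of A P₁)
    (X₃ := ModuleCat.of A (LinearMap.range d))
    (ModuleCat.ofHom (LinearMap.ker d).subtype) (ModuleCat.ofHom d.rangeRestrict) (by
      ext x
      exact x.2)

/-- `0 → range d → P₀ → coker d → 0`. -/
noncomputable def S2 : ShortComplex (ModuleCat.{u} A) :=
  ShortComplex.mk (X₁ := ModuleCat.of A (LinearMap.range d)) (X₂ := ModuleCat.of A P₀)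
    (X₃ := ModuleCat.of A (P₀ ⧸ LinearMap.range d))
    (ModuleCat.ofHom (LinearMap.range d).subtype) (ModuleCat.ofHom (LinearMap.range d).mkQ) (by
      ext x
      exact (Submodule.Quotient.mk_eq_zero _).2 x.2)

theorem exact_ker_rangeRestrict : Function.Exact (LinearMap.ker d).subtype d.rangeRestrict := by
  rw [LinearMap.exact_iff, LinearMap.ker_rangeRestrict, Submodule.range_subtype]

theorem S1_shortExact : (S1 d).ShortExact :=
  ModuleCat.shortComplex_shortExact (S1 d) (exact_ker_rangeRestrict d) Subtype.val_injective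
    d.surjective_rangeRestrict

theorem S2_shortExact : (S2 d).ShortExact :=
  ModuleCat.shortComplex_shortExact (S2 d) (LinearMap.exact_subtype_mkQ _) Subtype.val_injective
    (Submodule.mkQ_surjective _)

theorem range_le : LinearMap.range ((LinearMap.ker d).subtype.rTensor K) ≤
    LinearMap.ker (d.rTensor K) := by
  rintro _ ⟨x, rfl⟩
  rw [LinearMap.mem_ker, ← LinearMap.comp_apply, ← LinearMap.rTensor_comp]
  have : d ∘ₗ (LinearMap.ker d).subtype = 0 := by
    ext x
    exact x.2
  rw [this]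
  simp

theorem rTensor_eq (x : P₁ ⊗[A] K) :
    d.rTensor K x = (LinearMap.range d).subtype.rTensor K (d.rangeRestrict.rTensor K x) := by
  rw [← LinearMap.comp_apply, ← LinearMap.rTensor_comp]
  rfl

/-- the induced map on kernels. -/
noncomputable def kerMap : LinearMap.ker (d.rTensor K) →ₗ[A]
    LinearMap.ker ((LinearMap.range d).subtype.rTensor K) :=
  (d.rangeRestrict.rTensor K ∘ₗ (LinearMap.ker (d.rTensor K)).subtype).codRestrict _ (fun x => by
    rw [LinearMap.mem_ker]
    exact (rTensor_eq d K x.1).symm.trans x.2)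

theorem kerMap_surjective : Function.Surjective (kerMap d K) := by
  rintro ⟨y, hy⟩
  obtain ⟨x, rfl⟩ := LinearMap.rTensor_surjective K d.surjective_rangeRestrict y
  exact ⟨⟨x, (rTensor_eq d K x).trans hy⟩, Subtype.ext rfl⟩

theorem ker_kerMap : LinearMap.ker (kerMap d K) =
    Submodule.comap (LinearMap.ker (d.rTensor K)).subtype
      (LinearMap.range ((LinearMap.ker d).subtype.rTensor K)) := by
  have hex : Function.Exact ((LinearMap.ker d).subtype.rTensor K) (d.rangeRestrict.rTensor K) :=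
    rTensor_exact K (exact_ker_rangeRestrict d) d.surjective_rangeRestrict
  ext x
  rw [LinearMap.mem_ker, Submodule.mem_comap]
  constructor
  · intro h
    exact (hex x.1).1 (congrArg Subtype.val h)
  · intro h
    exact Subtype.ext ((hex x.1).2 h)

theorem nonempty_quot {X Y : Type*} [AddCommGroup X] [AddCommGroup Y] [Module A X] [Module A Y]
    (f : X →ₗ[A] Y) (hf : Function.Surjective f) (W : Submodule A X) (h : LinearMap.ker f = W) :
    Nonempty ((X ⧸ W) ≃ₗ[A] Y) := by
  subst h
  exact ⟨f.quotKerEquivOfSurjective hf⟩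

/-- `Tor_1(coker d, K)`. -/
theorem nonempty_one [Module.Flat A P₀] : Nonempty (LinearMap.ker ((LinearMap.range d).subtype.rTensor K) ≃ₗ[A]
    ((Tor (ModuleCat.{u} A) 1).obj (ModuleCat.of A (P₀ ⧸ LinearMap.range d))).obj (ModuleCat.of A K)) := by
  have hf2 : Module.Flat A (S2 d).X₂ := inferInstanceAs (Module.Flat A P₀)
  exact ⟨(TorLES.torOneEquiv (S2_shortExact d) (ModuleCat.of A K)).symm⟩

/-- `Tor_1(range d, K)`. -/
theorem nonempty_one' [Module.Flat A P₁] : Nonempty (LinearMap.ker ((LinearMap.ker d).subtype.rTensor K) ≃ₗ[A]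
    ((Tor (ModuleCat.{u} A) 1).obj (ModuleCat.of A (LinearMap.range d))).obj (ModuleCat.of A K)) := by
  have hf2 : Module.Flat A (S1 d).X₂ := inferInstanceAs (Module.Flat A P₁)
  exact ⟨(TorLES.torOneEquiv (S1_shortExact d) (ModuleCat.of A K)).symm⟩

theorem nonempty_two [Module.Flat A P₁] [Module.Flat A P₀] :
    Nonempty (LinearMap.ker ((LinearMap.ker d).subtype.rTensor K) ≃ₗ[A]
    ((Tor (ModuleCat.{u} A) 2).obj (ModuleCat.of A (P₀ ⧸ LinearMap.range d))).obj (ModuleCat.of A K)) := by
  have hf2 : Module.Flat A (S2 d).X₂ := inferInstanceAs (Module.Flat A P₀)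
  obtain ⟨e⟩ := nonempty_one' d K
  have hiso := TorLES.isIso_δ₁ (S2_shortExact d) (ModuleCat.of A K) 0
  exact ⟨e.trans (asIso (TorLES.δ₁ (S2_shortExact d) (ModuleCat.of A K) (0 + 1))).toLinearEquiv.symm⟩

theorem nonempty_one_quot [Module.Flat A P₀] :
    Nonempty ((↥(LinearMap.ker (d.rTensor K)) ⧸
      Submodule.comap (LinearMap.ker (d.rTensor K)).subtype
        (LinearMap.range ((LinearMap.ker d).subtype.rTensor K))) ≃ₗ[A]
    ((Tor (ModuleCat.{u} A) 1).obj (ModuleCat.of A (P₀ ⧸ LinearMap.range d))).obj (ModuleCat.of A K)) := by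
  obtain ⟨e⟩ := nonempty_one d K
  obtain ⟨e'⟩ := nonempty_quot (A := A) (X := ↥(LinearMap.ker (d.rTensor K)))
    (Y := ↥(LinearMap.ker ((LinearMap.range d).subtype.rTensor K))) (kerMap d K) (kerMap_surjective d K)
    (Submodule.comap (LinearMap.ker (d.rTensor K)).subtype
      (LinearMap.range ((LinearMap.ker d).subtype.rTensor K))) (ker_kerMap d K)
  exact ⟨e'.trans e⟩

end K97.TwoTerm
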