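import Groth.Agent.Ega3A.Watts
import Mathlib.CategoryTheory.Linear.LinearFunctor
import Mathlib.Algebra.Category.ModuleCat.Basic
import Mathlib.LinearAlgebra.FreeModule.Basic

/-!
The comparison map `T(A) ⊗ M → T(M)` in the explicit form used by the FlatCx rows, compared with
`Ega3A.Watts.theta`; bijectivity on free modules; right exactness.
-/

universe u

open CategoryTheory Limits MonoidalCategory

namespace K97.WattsT

open Groth.Agent.Ega3A.Watts

variable {A : Type u} [CommRing A] (T : ModuleCat.{u} A ⥤ ModuleCat.{u} A) [T.Additive] [T.Linear A]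

/-- the explicit comparison map. -/
noncomputable abbrev tmap (M : ModuleCat.{u} A) : TensorProduct A (T.obj (ModuleCat.of A A)) M →ₗ[A] T.obj M :=
  TensorProduct.lift (LinearMap.flip
        ((ModuleCat.homLinearEquiv (S := A)).toLinearMap ∘ₗ Functor.mapLinearMap A T ∘ₗ
          (ModuleCat.homLinearEquiv (S := A)).symm.toLinearMap ∘ₗ
            (LinearMap.ringLmapEquivSelf A A M).symm.toLinearMap))

theorem tmap_tmul (M : ModuleCat.{u} A) (t : T.obj (ModuleCat.of A A)) (m : M) :
    tmap T M (t ⊗ₜ[A] m) = (T.map (pt m)).hom t := by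
  have h : (ModuleCat.homLinearEquiv (S := A)).symm ((LinearMap.ringLmapEquivSelf A A M).symm m) =
      pt m := by
    ext
    change (1 : A) • m = (1 : A) • m
    rfl
  rw [tmap, TensorProduct.lift.tmul]
  change (T.map ((ModuleCat.homLinearEquiv (S := A)).symm
    ((LinearMap.ringLmapEquivSelf A A M).symm m))).hom t = _
  rw [h]

theorem tmap_eq (M : ModuleCat.{u} A) : tmap T M = ((theta T).app M).hom := by
  refine TensorProduct.ext' fun t m => ?_
  rw [tmap_tmul]
  exact (theta_app_tmul T M t m).symm

theorem bijective_iff (M : ModuleCat.{u} A) :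
    Function.Bijective (tmap T M) ↔ IsIso ((theta T).app M) := by
  rw [tmap_eq]
  exact ⟨fun h => (LinearEquiv.ofBijective _ h).toModuleIso.isIso_hom, fun h =>
    ConcreteCategory.bijective_of_isIso _⟩

theorem surjective_iff (M : ModuleCat.{u} A) :
    Function.Surjective (tmap T M) ↔ Epi ((theta T).app M) := by
  rw [tmap_eq, ModuleCat.epi_iff_surjective]

theorem isIso_of_iso {M N : ModuleCat.{u} A} (e : M ≅ N) (h : IsIso ((theta T).app M)) :
    IsIso ((theta T).app N) := by
  have h3 : (theta T).app N = (tensorLeft (T.obj (ModuleCat.of A A))).map e.inv ≫ (theta T).app M ≫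
      T.map e.hom := by
    rw [← (theta T).naturality e.hom, ← Functor.map_comp_assoc, e.inv_hom_id,
      CategoryTheory.Functor.map_id, Category.id_comp]
  rw [h3]
  infer_instance

theorem bijective_of_free [∀ J : Type u, PreservesColimitsOfShape (Discrete J) T] (L : ModuleCat.{u} A)
    [Module.Free A L] : Function.Bijective (tmap T L) := by
  rw [bijective_iff]
  let b := Module.Free.chooseBasis A L
  have hc := ModuleCat.finsuppCoconeIsColimit A A (Module.Free.ChooseBasisIndex A L)
  have h := isIso_app_of_isColimit (theta T) hc (fun _ => isIso_theta_self T)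
  exact isIso_of_iso T (b.repr.symm.toModuleIso) h

theorem preservesFiniteColimits_iff [∀ J : Type u, PreservesColimitsOfShape (Discrete J) T] :
    PreservesFiniteColimits T ↔ ∀ M : ModuleCat.{u} A, Function.Bijective (tmap T M) := by
  constructor
  · intro h M
    rw [bijective_iff]
    exact isIso_theta T M
  · intro h
    have h' : ∀ M : ModuleCat.{u} A, IsIso ((theta T).app M) := fun M => (bijective_iff T M).1 (h M)
    let e : tensorLeft (T.obj (ModuleCat.of A A)) ≅ T :=
      NatIso.ofComponents (fun M => @asIso _ _ _ _ ((theta T).app M) (h' M))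
        (fun f => (theta T).naturality f)
    exact preservesFiniteColimits_of_iso_tensorLeft T _ e.symm

theorem preservesFiniteColimits_iff' [∀ J : Type u, PreservesColimitsOfShape (Discrete J) T] :
    PreservesFiniteColimits T ↔
      (∀ S : ShortComplex (ModuleCat.{u} A), S.ShortExact → (S.map T).Exact) ∧
        ∀ M : ModuleCat.{u} A, Function.Surjective (tmap T M) := by
  constructor
  · intro h
    refine ⟨fun S hS => ?_, fun M => ((preservesFiniteColimits_iff T).1 h M).2⟩
    have h1 := ((Functor.preservesFiniteColimits_tfae T).out 3 0).1 h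
    exact (h1 S hS).1
  · rintro ⟨h1, h2⟩
    refine preservesFiniteColimits_of_halfExact T h1 ⟨fun {M N} f hf => ?_⟩
    have hN : Epi ((theta T).app N) := (surjective_iff T N).1 (h2 N)
    have h3 : (theta T).app M ≫ T.map f =
        (tensorLeft (T.obj (ModuleCat.of A A))).map f ≫ (theta T).app N :=
      ((theta T).naturality f).symm
    have : Epi ((theta T).app M ≫ T.map f) := by
      rw [h3]
      infer_instance
    exact epi_of_epi ((theta T).app M) _

end K97.WattsT
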